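import Mathlib

set_option autoImplicit false

/-!
# Abstract "Dickson structures"

A finite group `G` with a family of "component" subgroups `comp g` (for `PSL(2,q)`: the image of the
centralizer in `SL(2,q)` of a lift of `g`), forming a partition of `G \ {1}` into maximal abelian
subgroups of two types: `p`-groups (unipotent type) and cyclic `p'`-groups (tori).  This file sets
up the structure and proves the class equation for an arbitrary subgroup `H`.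
-/

namespace Cfsg.Agent.Lib.Helper48.Dickson

open Subgroup

/-- normalizer of a subgroup, as a subgroup -/
abbrev nrm {G : Type*} [Group G] (C : Subgroup G) : Subgroup G := Subgroup.normalizer (C : Set G)

theorem mem_nrm_iff {G : Type*} [Group G] {C : Subgroup G} {g : G} :
    g ∈ nrm C ↔ ∀ h, h ∈ C ↔ g * h * g⁻¹ ∈ C := Subgroup.mem_normalizer_iff

/-- A Dickson structure on a group `G` for the prime `p`. -/
structure DStruct (G : Type*) [Group G] (p : ℕ) where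
  comp : G → Subgroup G
  mem_comp : ∀ g, g ∈ comp g
  comp_comm : ∀ g, g ≠ 1 → ∀ a ∈ comp g, ∀ b ∈ comp g, a * b = b * a
  comp_eq : ∀ g, g ≠ 1 → ∀ g' ∈ comp g, g' ≠ 1 → comp g' = comp g
  comp_conj : ∀ x g y, g ≠ 1 → (y ∈ comp (x * g * x⁻¹) ↔ x⁻¹ * y * x ∈ comp g)
  dich : ∀ g, g ≠ 1 → IsPGroup p (comp g) ∨ (Nat.card (comp g)).Coprime p
  u_not_dvd : ∀ g, g ≠ 1 → IsPGroup p (comp g) → ∀ n ∈ nrm (comp g), n ∉ comp g → ¬ p ∣ orderOf n
  u_cyc : ∀ g, g ≠ 1 → IsPGroup p (comp g) →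
    ∃ n0 ∈ nrm (comp g), ∀ n ∈ nrm (comp g), ∃ i : ℕ, n * n0 ^ i ∈ comp g
  u_free : ∀ g, g ≠ 1 → IsPGroup p (comp g) → ∀ n ∈ nrm (comp g), n ∉ comp g →
    ∀ c ∈ comp g, c ≠ 1 → n * c * n⁻¹ ≠ c
  u_comp : ∀ g, g ≠ 1 → IsPGroup p (comp g) → ∀ n ∈ nrm (comp g), n ∉ comp g →
    comp n ≤ nrm (comp g)
  u_sylow : ∀ S : Subgroup G, IsPGroup p S → S ≠ ⊥ →
    ∃ g, g ≠ 1 ∧ IsPGroup p (comp g) ∧ S ≤ comp g
  t_cyc : ∀ g, g ≠ 1 → (Nat.card (comp g)).Coprime p → IsCyclic (comp g)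
  t_inv : ∀ g, g ≠ 1 → (Nat.card (comp g)).Coprime p → ∀ n ∈ nrm (comp g), n ∉ comp g →
    n ^ 2 = 1 ∧ ∀ c ∈ comp g, n * c * n⁻¹ = c⁻¹
  t_idx : ∀ g, g ≠ 1 → (Nat.card (comp g)).Coprime p → ∀ n ∈ nrm (comp g), ∀ n' ∈ nrm (comp g),
    n ∉ comp g → n' ∉ comp g → n * n' ∈ comp g

namespace DStruct

variable {G : Type*} [Group G] {p : ℕ} (D : DStruct G p)

theorem conj_ne_one {x g : G} (hg : g ≠ 1) : x * g * x⁻¹ ≠ 1 := by
  intro h
  apply hg
  have : g = x⁻¹ * (x * g * x⁻¹) * x := by group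
  rw [this, h]; group

include D in
theorem comp_eq_of_mem {g g' : G} (hg : g ≠ 1) (hg' : g' ≠ 1) (h : g' ∈ D.comp g) :
    D.comp g' = D.comp g := D.comp_eq g hg g' h hg'

theorem mem_comp_symm {g g' : G} (hg : g ≠ 1) (hg' : g' ≠ 1) (h : g' ∈ D.comp g) :
    g ∈ D.comp g' := by
  rw [D.comp_eq_of_mem hg hg' h]; exact D.mem_comp g

/-- `x` normalizes `comp g` iff `comp (x g x⁻¹) = comp g`. -/
theorem mem_nrm_comp_iff {x g : G} (hg : g ≠ 1) :
    x ∈ nrm (D.comp g) ↔ D.comp (x * g * x⁻¹) = D.comp g := by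
  constructor
  · intro hx
    have h1 : x * g * x⁻¹ ∈ D.comp g := (mem_nrm_iff.1 hx g).1 (D.mem_comp g)
    exact D.comp_eq_of_mem hg (conj_ne_one hg) h1
  · intro h
    rw [mem_nrm_iff]
    intro y
    have h2 := D.comp_conj x g (x * y * x⁻¹) hg
    rw [h] at h2
    rw [h2]
    have : x⁻¹ * (x * y * x⁻¹) * x = y := by group
    rw [this]

/-- conjugating: `comp (x g x⁻¹) = comp (x g' x⁻¹)` when `comp g = comp g'`. -/
theorem comp_conj_congr {x g g' : G} (hg : g ≠ 1) (hg' : g' ≠ 1) (h : D.comp g = D.comp g') :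
    D.comp (x * g * x⁻¹) = D.comp (x * g' * x⁻¹) := by
  ext y
  rw [D.comp_conj x g y hg, D.comp_conj x g' y hg', h]

theorem card_comp_conj [Finite G] {x g : G} (hg : g ≠ 1) :
    Nat.card (D.comp (x * g * x⁻¹)) = Nat.card (D.comp g) := by
  apply Nat.card_congr
  refine ⟨fun y => ⟨x⁻¹ * y.1 * x, (D.comp_conj x g y.1 hg).1 y.2⟩,
    fun z => ⟨x * z.1 * x⁻¹, (D.comp_conj x g _ hg).2 (by
      have : x⁻¹ * (x * z.1 * x⁻¹) * x = z.1 := by group
      rw [this]; exact z.2)⟩, ?_, ?_⟩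
  · intro y; apply Subtype.ext; simp only; group
  · intro z; apply Subtype.ext; simp only; group

end DStruct

end Cfsg.Agent.Lib.Helper48.Dickson
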