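import Mathlib
import Cfsg.Agent.Lib.Helper48.Dickson.Abstract1

set_option autoImplicit false

/-! # The class equation for a subgroup of a group with a Dickson structure -/

namespace Cfsg.Agent.Lib.Helper48.Dickson

open Subgroup

namespace DStruct

variable {G : Type*} [Group G] {p : ℕ} (D : DStruct G p) (H : Subgroup G)

/-- the `H`-component of `g` -/
def XH (g : G) : Subgroup G := H ⊓ D.comp g

/-- its normalizer in `H` -/
def NH (g : G) : Subgroup G := H ⊓ nrm (D.comp g)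

theorem XH_le_NH (g : G) : D.XH H g ≤ D.NH H g :=
  inf_le_inf_left H Subgroup.le_normalizer

/-- `g'` lies in the `H`-class of (the component of) `g`. -/
def Rel (g g' : G) : Prop := ∃ h ∈ H, D.comp (h * g * h⁻¹) = D.comp g'

theorem rel_refl (g : G) : D.Rel H g g := ⟨1, H.one_mem, by simp⟩

theorem rel_symm {g g' : G} (hg : g ≠ 1) (hg' : g' ≠ 1) (h : D.Rel H g g') : D.Rel H g' g := by
  obtain ⟨x, hx, hc⟩ := h
  refine ⟨x⁻¹, H.inv_mem hx, ?_⟩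
  have h1 := D.comp_conj_congr (x := x⁻¹) (conj_ne_one hg) hg' hc
  rw [← h1]
  congr 1
  group

theorem rel_trans {g g' g'' : G} (hg : g ≠ 1) (hg' : g' ≠ 1)
    (h : D.Rel H g g') (h' : D.Rel H g' g'') : D.Rel H g g'' := by
  obtain ⟨x, hx, hc⟩ := h
  obtain ⟨y, hy, hc'⟩ := h'
  refine ⟨y * x, H.mul_mem hy hx, ?_⟩
  have h1 := D.comp_conj_congr (x := y) (conj_ne_one hg) hg' hc
  rw [← hc', ← h1]
  congr 1
  group

theorem card_subtype_ne_one {X : Type*} [Group X] [Finite X] :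
    Nat.card {y : X // y ≠ 1} = Nat.card X - 1 := by
  classical
  have e := Equiv.optionSubtypeNe (1 : X)
  have h := Nat.card_congr e
  rw [Finite.card_option] at h
  omega

/-- the key counting fact: the class of `g` has `[H : N_H(X)] (|X| - 1)` elements -/
theorem class_card [Finite G] {g : G} (hg : g ≠ 1) :
    Nat.card {z : G // z ∈ H ∧ z ≠ 1 ∧ D.Rel H g z} * Nat.card (D.NH H g) =
      Nat.card H * (Nat.card (D.XH H g) - 1) := by
  classical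
  have hE : Nat.card {y : G // y ∈ D.XH H g ∧ y ≠ 1} = Nat.card (D.XH H g) - 1 := by
    have e : {y : G // y ∈ D.XH H g ∧ y ≠ 1} ≃ {y : D.XH H g // y ≠ 1} :=
      { toFun := fun y => ⟨⟨y.1, y.2.1⟩, fun h => y.2.2 (by simpa using congrArg Subtype.val h)⟩
        invFun := fun y => ⟨y.1.1, y.1.2, fun h => y.2 (Subtype.ext h)⟩
        left_inv := fun y => rfl
        right_inv := fun y => rfl }
    rw [Nat.card_congr e, card_subtype_ne_one]
  rw [← hE, ← Nat.card_prod, ← Nat.card_prod]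
  apply Nat.card_congr
  -- choice of conjugating elements
  have hch : ∀ z : {z : G // z ∈ H ∧ z ≠ 1 ∧ D.Rel H g z}, ∃ h, h ∈ H ∧
      D.comp (h * g * h⁻¹) = D.comp z.1 := fun z => z.2.2.2
  choose hz hzH hzc using hch
  have key1 : ∀ (z : {z : G // z ∈ H ∧ z ≠ 1 ∧ D.Rel H g z}) (n : D.NH H g),
      (hz z * n.1)⁻¹ * z.1 * (hz z * n.1) ∈ D.XH H g ∧
      (hz z * n.1)⁻¹ * z.1 * (hz z * n.1) ≠ 1 := by
    intro z n
    have hnH : n.1 ∈ H := (Subgroup.mem_inf.1 n.2).1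
    have hnN : n.1 ∈ nrm (D.comp g) := (Subgroup.mem_inf.1 n.2).2
    refine ⟨Subgroup.mem_inf.2 ⟨H.mul_mem (H.mul_mem (H.inv_mem (H.mul_mem (hzH z) hnH)) z.2.1)
      (H.mul_mem (hzH z) hnH), ?_⟩, ?_⟩
    · rw [← D.comp_conj _ g _ hg]
      have hn : D.comp (n.1 * g * n.1⁻¹) = D.comp g := (D.mem_nrm_comp_iff hg).1 hnN
      have h1 := D.comp_conj_congr (x := hz z) (conj_ne_one hg) hg hn
      have h2 : hz z * n.1 * g * (hz z * n.1)⁻¹ =
          hz z * (n.1 * g * n.1⁻¹) * (hz z)⁻¹ := by group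
      rw [h2, h1, hzc z]
      exact D.mem_comp _
    · intro h
      apply z.2.2.1
      have : z.1 = (hz z * n.1) * ((hz z * n.1)⁻¹ * z.1 * (hz z * n.1)) *
          (hz z * n.1)⁻¹ := by group
      rw [this, h]; group
  have key2 : ∀ (h : H) (y : {y : G // y ∈ D.XH H g ∧ y ≠ 1}),
      h.1 * y.1 * h.1⁻¹ ∈ H ∧ h.1 * y.1 * h.1⁻¹ ≠ 1 ∧ D.Rel H g (h.1 * y.1 * h.1⁻¹) := by
    intro h y
    have hyH : y.1 ∈ H := (Subgroup.mem_inf.1 y.2.1).1
    have hyC : y.1 ∈ D.comp g := (Subgroup.mem_inf.1 y.2.1).2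
    refine ⟨H.mul_mem (H.mul_mem h.2 hyH) (H.inv_mem h.2), conj_ne_one y.2.2, h.1, h.2, ?_⟩
    have hy' : D.comp y.1 = D.comp g := D.comp_eq_of_mem hg y.2.2 hyC
    exact D.comp_conj_congr hg y.2.2 hy'.symm
  have key3 : ∀ (h : H) (y : {y : G // y ∈ D.XH H g ∧ y ≠ 1}),
      (hz ⟨h.1 * y.1 * h.1⁻¹, key2 h y⟩)⁻¹ * h.1 ∈ D.NH H g := by
    intro h y
    set z : {z : G // z ∈ H ∧ z ≠ 1 ∧ D.Rel H g z} := ⟨h.1 * y.1 * h.1⁻¹, key2 h y⟩ with hzdef
    refine Subgroup.mem_inf.2 ⟨H.mul_mem (H.inv_mem (hzH z)) h.2, ?_⟩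
    rw [D.mem_nrm_comp_iff hg]
    have hyC : y.1 ∈ D.comp g := (Subgroup.mem_inf.1 y.2.1).2
    have hy' : D.comp y.1 = D.comp g := D.comp_eq_of_mem hg y.2.2 hyC
    have h1 : D.comp (h.1 * g * h.1⁻¹) = D.comp (hz z * g * (hz z)⁻¹) := by
      rw [hzc z]
      exact D.comp_conj_congr hg y.2.2 hy'.symm
    have h2 := D.comp_conj_congr (x := (hz z)⁻¹) (conj_ne_one hg) (conj_ne_one hg) h1
    have e1 : (hz z)⁻¹ * (h.1 * g * h.1⁻¹) * (hz z)⁻¹⁻¹ = (hz z)⁻¹ * h.1 * g * ((hz z)⁻¹ * h.1)⁻¹ := by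
      group
    have e2 : (hz z)⁻¹ * (hz z * g * (hz z)⁻¹) * (hz z)⁻¹⁻¹ = g := by group
    rw [e1, e2] at h2
    exact h2
  refine ⟨fun zn => ⟨⟨hz zn.1 * zn.2.1, H.mul_mem (hzH zn.1) (Subgroup.mem_inf.1 zn.2.2).1⟩,
      ⟨(hz zn.1 * zn.2.1)⁻¹ * zn.1.1 * (hz zn.1 * zn.2.1), key1 zn.1 zn.2⟩⟩,
    fun hy => ⟨⟨hy.1.1 * hy.2.1 * hy.1.1⁻¹, key2 hy.1 hy.2⟩, ⟨_, key3 hy.1 hy.2⟩⟩, ?_, ?_⟩
  · rintro ⟨z, n⟩
    have hzz : (⟨(hz z * n.1) * ((hz z * n.1)⁻¹ * z.1 * (hz z * n.1)) * (hz z * n.1)⁻¹,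
        key2 ⟨hz z * n.1, H.mul_mem (hzH z) (Subgroup.mem_inf.1 n.2).1⟩
          ⟨(hz z * n.1)⁻¹ * z.1 * (hz z * n.1), key1 z n⟩⟩ :
          {z : G // z ∈ H ∧ z ≠ 1 ∧ D.Rel H g z}) = z := by
      apply Subtype.ext
      simp only
      group
    apply Prod.ext
    · exact hzz
    · apply Subtype.ext
      simp only
      rw [hzz]
      group
  · rintro ⟨h, y⟩
    apply Prod.ext
    · apply Subtype.ext
      simp only
      group
    · apply Subtype.ext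
      simp only
      group

end DStruct

end Cfsg.Agent.Lib.Helper48.Dickson
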