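import Mathlib
import Cfsg.Agent.Lib.Helper48.Dickson.Abstract2

set_option autoImplicit false

/-! # The class equation, summed over classes -/

namespace Cfsg.Agent.Lib.Helper48.Dickson

open Subgroup

namespace DStruct

variable {G : Type*} [Group G] {p : ℕ} (D : DStruct G p) (H : Subgroup G)

/-- the nonidentity elements of `H` -/
abbrev HS : Type _ := {z : G // z ∈ H ∧ z ≠ 1}

/-- the setoid of `H`-classes of components -/
def cls : Setoid (HS H) where
  r a b := D.Rel H a.1 b.1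
  iseqv := ⟨fun a => D.rel_refl H a.1, fun {a b} h => D.rel_symm H a.2.2 b.2.2 h,
    fun {a b _} h h' => D.rel_trans H a.2.2 b.2.2 h h'⟩

/-- the type of classes -/
abbrev Cls : Type _ := Quotient (D.cls H)

theorem card_XH_of_rel [Finite G] {g g' : G} (hg : g ≠ 1) (hg' : g' ≠ 1) (h : D.Rel H g g') :
    Nat.card (D.XH H g') = Nat.card (D.XH H g) := by
  obtain ⟨x, hx, hc⟩ := h
  apply Nat.card_congr
  refine ⟨fun y => ⟨x⁻¹ * y.1 * x, Subgroup.mem_inf.2 ⟨H.mul_mem (H.mul_mem (H.inv_mem hx)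
      (Subgroup.mem_inf.1 y.2).1) hx, ?_⟩⟩,
    fun y => ⟨x * y.1 * x⁻¹, Subgroup.mem_inf.2 ⟨H.mul_mem (H.mul_mem hx
      (Subgroup.mem_inf.1 y.2).1) (H.inv_mem hx), ?_⟩⟩, ?_, ?_⟩
  · rw [← D.comp_conj x g _ hg, hc]
    exact (Subgroup.mem_inf.1 y.2).2
  · rw [← hc, D.comp_conj x g _ hg]
    have : x⁻¹ * (x * y.1 * x⁻¹) * x = y.1 := by group
    rw [this]
    exact (Subgroup.mem_inf.1 y.2).2
  · intro y; apply Subtype.ext; simp only; group
  · intro y; apply Subtype.ext; simp only; group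

theorem conj_mem_nrm {x g n : G} (hg : g ≠ 1) (hn : n ∈ nrm (D.comp g)) :
    x * n * x⁻¹ ∈ nrm (D.comp (x * g * x⁻¹)) := by
  rw [D.mem_nrm_comp_iff (conj_ne_one hg)]
  have h1 : D.comp (n * g * n⁻¹) = D.comp g := (D.mem_nrm_comp_iff hg).1 hn
  have h2 := D.comp_conj_congr (x := x) (conj_ne_one hg) hg h1
  rw [← h2]
  congr 1
  group

theorem card_NH_of_rel [Finite G] {g g' : G} (hg : g ≠ 1) (hg' : g' ≠ 1) (h : D.Rel H g g') :
    Nat.card (D.NH H g') = Nat.card (D.NH H g) := by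
  obtain ⟨x, hx, hc⟩ := h
  apply Nat.card_congr
  refine ⟨fun y => ⟨x⁻¹ * y.1 * x, Subgroup.mem_inf.2 ⟨H.mul_mem (H.mul_mem (H.inv_mem hx)
      (Subgroup.mem_inf.1 y.2).1) hx, ?_⟩⟩,
    fun y => ⟨x * y.1 * x⁻¹, Subgroup.mem_inf.2 ⟨H.mul_mem (H.mul_mem hx
      (Subgroup.mem_inf.1 y.2).1) (H.inv_mem hx), ?_⟩⟩, ?_, ?_⟩
  · have hy : y.1 ∈ nrm (D.comp (x * g * x⁻¹)) := by
      have := (Subgroup.mem_inf.1 y.2).2
      unfold nrm at this ⊢
      rwa [hc]
    have h3 := D.conj_mem_nrm (x := x⁻¹) (conj_ne_one hg) hy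
    have e : x⁻¹ * (x * g * x⁻¹) * x⁻¹⁻¹ = g := by group
    rw [e] at h3
    simpa using h3
  · have h3 := D.conj_mem_nrm (x := x) hg (Subgroup.mem_inf.1 y.2).2
    unfold nrm at h3 ⊢
    rwa [hc] at h3
  · intro y; apply Subtype.ext; simp only; group
  · intro y; apply Subtype.ext; simp only; group

theorem isPGroup_of_rel {g g' : G} (hg : g ≠ 1) (h : D.Rel H g g') (hp : IsPGroup p (D.comp g)) :
    IsPGroup p (D.comp g') := by
  obtain ⟨x, hx, hc⟩ := h
  rw [← hc]
  intro y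
  have hy : x⁻¹ * y.1 * x ∈ D.comp g := (D.comp_conj x g _ hg).1 y.2
  obtain ⟨k, hk⟩ := hp ⟨_, hy⟩
  refine ⟨k, ?_⟩
  apply Subtype.ext
  have h1 : (x⁻¹ * y.1 * x) ^ p ^ k = 1 := by simpa using congrArg Subtype.val hk
  have h2 : (x⁻¹ * y.1 * x) ^ p ^ k = x⁻¹ * y.1 ^ p ^ k * x := by
    have := conj_pow (a := x⁻¹) (b := y.1) (i := p ^ k)
    simpa using this
  rw [h2] at h1
  have : y.1 ^ p ^ k = x * (x⁻¹ * y.1 ^ p ^ k * x) * x⁻¹ := by group
  simp only [Subgroup.coe_pow, Subgroup.coe_one]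
  rw [this, h1]; group

section

variable [Finite G]

noncomputable instance : Fintype (D.Cls H) := Fintype.ofFinite _

/-- order of the component of a class -/
noncomputable def xc (c : D.Cls H) : ℕ := Nat.card (D.XH H c.out.1)

/-- order of the normalizer in `H` of the component of a class -/
noncomputable def nc (c : D.Cls H) : ℕ := Nat.card (D.NH H c.out.1)

theorem xc_eq {c : D.Cls H} {z : HS H} (hz : (Quotient.mk (D.cls H) z) = c) :
    D.xc H c = Nat.card (D.XH H z.1) := by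
  have h : (D.cls H).r c.out z := by
    have : Quotient.mk (D.cls H) c.out = Quotient.mk (D.cls H) z := by rw [Quotient.out_eq, hz]
    exact Quotient.exact this
  exact (D.card_XH_of_rel H z.2.2 c.out.2.2 (D.rel_symm H c.out.2.2 z.2.2 h))

theorem nc_eq {c : D.Cls H} {z : HS H} (hz : (Quotient.mk (D.cls H) z) = c) :
    D.nc H c = Nat.card (D.NH H z.1) := by
  have h : (D.cls H).r c.out z := by
    have : Quotient.mk (D.cls H) c.out = Quotient.mk (D.cls H) z := by rw [Quotient.out_eq, hz]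
    exact Quotient.exact this
  exact (D.card_NH_of_rel H z.2.2 c.out.2.2 (D.rel_symm H c.out.2.2 z.2.2 h))

theorem nc_pos (c : D.Cls H) : 0 < D.nc H c := Nat.card_pos

theorem two_le_xc (c : D.Cls H) : 2 ≤ D.xc H c := by
  unfold xc
  have h1 : c.out.1 ∈ D.XH H c.out.1 := Subgroup.mem_inf.2 ⟨c.out.2.1, D.mem_comp _⟩
  have : Nontrivial (D.XH H c.out.1) :=
    ⟨⟨⟨c.out.1, h1⟩, 1, fun h => c.out.2.2 (by simpa using congrArg Subtype.val h)⟩⟩
  exact Finite.one_lt_card

theorem xc_dvd_nc (c : D.Cls H) : D.xc H c ∣ D.nc H c :=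
  Subgroup.card_dvd_of_le (D.XH_le_NH H _)

theorem nc_dvd_card (c : D.Cls H) : D.nc H c ∣ Nat.card H :=
  Subgroup.card_dvd_of_le inf_le_left

/-- the class equation -/
theorem class_equation :
    ∑ c : D.Cls H, ((D.xc H c : ℚ) - 1) / (D.nc H c : ℚ) = 1 - 1 / (Nat.card H : ℚ) := by
  classical
  have hHpos : (0 : ℚ) < Nat.card H := by exact_mod_cast Nat.card_pos
  -- class sizes
  have hsz : ∀ c : D.Cls H, ((D.xc H c : ℚ) - 1) / (D.nc H c : ℚ) =
      (Nat.card {z : HS H // Quotient.mk (D.cls H) z = c} : ℚ) / (Nat.card H : ℚ) := by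
    intro c
    have h1 := D.class_card H (g := c.out.1) c.out.2.2
    have e : {z : HS H // Quotient.mk (D.cls H) z = c} ≃
        {z : G // z ∈ H ∧ z ≠ 1 ∧ D.Rel H c.out.1 z} :=
      { toFun := fun z => ⟨z.1.1, z.1.2.1, z.1.2.2, by
          have : Quotient.mk (D.cls H) c.out = Quotient.mk (D.cls H) z.1 := by
            rw [Quotient.out_eq, z.2]
          exact Quotient.exact this⟩
        invFun := fun z => ⟨⟨z.1, z.2.1, z.2.2.1⟩, by
          have : Quotient.mk (D.cls H) c.out = Quotient.mk (D.cls H) ⟨z.1, z.2.1, z.2.2.1⟩ :=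
            Quotient.sound z.2.2.2
          rw [← this, Quotient.out_eq]⟩
        left_inv := fun z => rfl
        right_inv := fun z => rfl }
    rw [Nat.card_congr e]
    have hn : (0 : ℚ) < D.nc H c := by exact_mod_cast D.nc_pos H c
    have hx : 1 ≤ D.xc H c := le_trans (by norm_num) (D.two_le_xc H c)
    rw [div_eq_div_iff hn.ne' hHpos.ne']
    have h2 : (Nat.card {z : G // z ∈ H ∧ z ≠ 1 ∧ D.Rel H c.out.1 z} : ℚ) * (D.nc H c : ℚ) =
        (Nat.card H : ℚ) * ((D.xc H c : ℚ) - 1) := by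
      have : ((D.xc H c - 1 : ℕ) : ℚ) = (D.xc H c : ℚ) - 1 := by
        rw [Nat.cast_sub hx]; simp
      rw [← this]
      unfold xc nc
      exact_mod_cast h1
    linarith
  rw [Finset.sum_congr rfl (fun c _ => hsz c), ← Finset.sum_div]
  have hsum : ∑ c : D.Cls H, (Nat.card {z : HS H // Quotient.mk (D.cls H) z = c} : ℚ) =
      (Nat.card H : ℚ) - 1 := by
    have h1 : Nat.card (HS H) = Nat.card H - 1 := by
      have e : HS H ≃ {y : H // y ≠ 1} :=
        { toFun := fun y => ⟨⟨y.1, y.2.1⟩, fun h => y.2.2 (by simpa using congrArg Subtype.val h)⟩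
          invFun := fun y => ⟨y.1.1, y.1.2, fun h => y.2 (Subtype.ext h)⟩
          left_inv := fun y => rfl
          right_inv := fun y => rfl }
      rw [Nat.card_congr e, card_subtype_ne_one]
    have h2 : Nat.card (HS H) = ∑ c : D.Cls H, Nat.card {z : HS H // Quotient.mk (D.cls H) z = c} := by
      have e := Equiv.sigmaFiberEquiv (Quotient.mk (D.cls H))
      rw [← Nat.card_congr e, Nat.card_sigma]
    have h3 : 1 ≤ Nat.card H := Nat.card_pos
    have : ((Nat.card H - 1 : ℕ) : ℚ) = (Nat.card H : ℚ) - 1 := by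
      rw [Nat.cast_sub h3]; simp
    rw [← this, ← h1, h2]
    push_cast
    rfl
  rw [hsum]
  field_simp

end

end DStruct

end Cfsg.Agent.Lib.Helper48.Dickson
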