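import Mathlib
import Cfsg.Agent.Lib.Helper48.Dickson.Abstract3

set_option autoImplicit false

/-! # Group-theoretic facts about the classes: the hypotheses of the numerical classification -/

namespace Cfsg.Agent.Lib.Helper48.Dickson

open Subgroup

/-- a free two-sided action: if `x t n⁻¹ = t` with `x ∈ Q`, `n ∈ N`, `t ∈ T` forces `x = 1`, then
`|Q| |N|` divides `|T|` -/
theorem card_dvd_of_free {G : Type*} [Group G] [Finite G] (Q N : Subgroup G) (T : Set G)
    (hT : ∀ x ∈ Q, ∀ n ∈ N, ∀ t ∈ T, x * t * n⁻¹ ∈ T)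
    (hfree : ∀ x ∈ Q, ∀ n ∈ N, ∀ t ∈ T, x * t * n⁻¹ = t → x = 1) :
    Nat.card Q * Nat.card N ∣ Nat.card T := by
  let _ : MulAction (Q × N) T :=
    { smul := fun a t => ⟨a.1.1 * t.1 * a.2.1⁻¹, hT _ a.1.2 _ a.2.2 _ t.2⟩
      one_smul := fun t => by
        apply Subtype.ext
        change (1 : G) * t.1 * (1 : G)⁻¹ = t.1
        group
      mul_smul := fun a b t => by
        apply Subtype.ext
        change (a.1.1 * b.1.1) * t.1 * (a.2.1 * b.2.1)⁻¹ = a.1.1 * (b.1.1 * t.1 * b.2.1⁻¹) * a.2.1⁻¹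
        group }
  have hstab : ∀ t : T, MulAction.stabilizer (Q × N) t = ⊥ := by
    intro t
    rw [eq_bot_iff]
    intro a ha
    rw [MulAction.mem_stabilizer_iff] at ha
    have h1 : a.1.1 * t.1 * a.2.1⁻¹ = t.1 := congrArg Subtype.val ha
    have h2 : a.1.1 = 1 := hfree _ a.1.2 _ a.2.2 _ t.2 h1
    rw [h2] at h1
    have h3 : a.2.1 = 1 := by
      have : t.1 * a.2.1⁻¹ = t.1 := by simpa using h1
      have h4 : a.2.1⁻¹ = 1 := by
        have := congrArg (fun z => t.1⁻¹ * z) this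
        simpa using this
      simpa using h4
    rw [Subgroup.mem_bot]
    apply Prod.ext
    · exact Subtype.ext h2
    · exact Subtype.ext h3
  have e := MulAction.selfEquivOrbitsQuotientProd hstab
  rw [Nat.card_congr e, Nat.card_prod, Nat.card_prod]
  exact Dvd.intro_left _ rfl

namespace DStruct

variable {G : Type*} [Group G] {p : ℕ} (D : DStruct G p) (H : Subgroup G)

theorem mem_XH {g y : G} : y ∈ D.XH H g ↔ y ∈ H ∧ y ∈ D.comp g := Subgroup.mem_inf

theorem mem_NH {g y : G} : y ∈ D.NH H g ↔ y ∈ H ∧ y ∈ nrm (D.comp g) := Subgroup.mem_inf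

theorem self_mem_XH {g : G} (hgH : g ∈ H) : g ∈ D.XH H g := (D.mem_XH H).2 ⟨hgH, D.mem_comp g⟩

/-- an element of `H` normalizes `XH g` iff it normalizes `comp g` -/
theorem NH_eq {g : G} (hg : g ≠ 1) (hgH : g ∈ H) : D.NH H g = H ⊓ nrm (D.XH H g) := by
  ext h
  rw [D.mem_NH, Subgroup.mem_inf]
  constructor
  · rintro ⟨hh, hn⟩
    refine ⟨hh, ?_⟩
    rw [mem_nrm_iff]
    intro y
    rw [D.mem_XH, D.mem_XH]
    have h1 : y ∈ H ↔ h * y * h⁻¹ ∈ H := by
      constructor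
      · intro hy; exact H.mul_mem (H.mul_mem hh hy) (H.inv_mem hh)
      · intro hy
        have : y = h⁻¹ * (h * y * h⁻¹) * h := by group
        rw [this]; exact H.mul_mem (H.mul_mem (H.inv_mem hh) hy) hh
    rw [h1, (mem_nrm_iff.1 hn y)]
  · rintro ⟨hh, hn⟩
    refine ⟨hh, ?_⟩
    rw [D.mem_nrm_comp_iff hg]
    have h1 : h * g * h⁻¹ ∈ D.XH H g := (mem_nrm_iff.1 hn g).1 (D.self_mem_XH H hgH)
    exact D.comp_eq_of_mem hg (conj_ne_one hg) ((D.mem_XH H).1 h1).2

/-- T-type: the normalizer has index at most two -/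
theorem card_NH_of_T [Finite G] {g : G} (hg : g ≠ 1) (hT : (Nat.card (D.comp g)).Coprime p) :
    Nat.card (D.NH H g) = Nat.card (D.XH H g) ∨
      Nat.card (D.NH H g) = 2 * Nat.card (D.XH H g) := by
  have hcard : Nat.card (D.XH H g) * (D.XH H g).relIndex (D.NH H g) = Nat.card (D.NH H g) := by
    have := Subgroup.relIndex_mul_relIndex (⊥ : Subgroup G) (D.XH H g) (D.NH H g) bot_le
      (D.XH_le_NH H g)
    rwa [Subgroup.relIndex_bot_left, Subgroup.relIndex_bot_left] at this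
  by_cases hle : D.NH H g ≤ D.XH H g
  · left
    rw [le_antisymm hle (D.XH_le_NH H g)]
  · right
    obtain ⟨n0, hn0, hn0'⟩ := SetLike.not_le_iff_exists.1 hle
    have h2 : (D.XH H g).relIndex (D.NH H g) = 2 := by
      rw [Subgroup.relIndex_eq_two_iff]
      refine ⟨n0, hn0, fun b hb => ?_⟩
      have hn0H : n0 ∈ H := ((D.mem_NH H).1 hn0).1
      have hn0N : n0 ∈ nrm (D.comp g) := ((D.mem_NH H).1 hn0).2
      have hn0C : n0 ∉ D.comp g := fun h => hn0' ((D.mem_XH H).2 ⟨hn0H, h⟩)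
      have hbH : b ∈ H := ((D.mem_NH H).1 hb).1
      have hbN : b ∈ nrm (D.comp g) := ((D.mem_NH H).1 hb).2
      by_cases hbX : b ∈ D.XH H g
      · right
        refine ⟨hbX, fun h => hn0' ?_⟩
        have : n0 = b⁻¹ * (b * n0) := by group
        rw [this]
        exact (D.XH H g).mul_mem ((D.XH H g).inv_mem hbX) h
      · left
        refine ⟨?_, hbX⟩
        have hbC : b ∉ D.comp g := fun h => hbX ((D.mem_XH H).2 ⟨hbH, h⟩)
        exact (D.mem_XH H).2 ⟨H.mul_mem hbH hn0H, D.t_idx g hg hT b hbN n0 hn0N hbC hn0C⟩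
    rw [← hcard, h2, mul_comm]

section Sylow

variable [Finite G]

/-- every `p`-subgroup of `H` containing `g ≠ 1` lies in `XH g` -/
theorem pgroup_le_XH {g : G} (hg : g ≠ 1) (S : Subgroup G) (hS : IsPGroup p S) (hSH : S ≤ H)
    (hgS : g ∈ S) : S ≤ D.XH H g ∧ IsPGroup p (D.comp g) := by
  have hne : S ≠ ⊥ := by
    intro h
    rw [h, Subgroup.mem_bot] at hgS
    exact hg hgS
  obtain ⟨g0, hg0, hp0, hle⟩ := D.u_sylow S hS hne
  have h1 : D.comp g = D.comp g0 := D.comp_eq_of_mem hg0 hg (hle hgS)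
  rw [h1]
  refine ⟨fun y hy => (D.mem_XH H).2 ⟨hSH hy, ?_⟩, hp0⟩
  rw [h1]
  exact hle hy

/-- two Sylow subgroups of `H` inside components give related elements -/
theorem rel_of_sylow {l : ℕ} [Fact l.Prime] {g g' : G} (hg : g ≠ 1) (hg' : g' ≠ 1) (hgH : g ∈ H)
    (S S' : Sylow l H) (hgS : (⟨g, hgH⟩ : H) ∈ S)
    (hS' : ∀ y : H, y ∈ S' → y.1 ∈ D.comp g') : D.Rel H g g' := by
  obtain ⟨h, hh⟩ := MulAction.exists_smul_eq H S S'
  refine ⟨h.1, h.2, ?_⟩
  have h1 : h * ⟨g, hgH⟩ * h⁻¹ ∈ S' := by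
    rw [← hh]
    change _ ∈ ((h • S : Sylow l H) : Subgroup H)
    rw [Sylow.coe_subgroup_smul]
    have := Subgroup.smul_mem_pointwise_smul _ (MulAut.conj h) (S : Subgroup H) hgS
    simpa [MulAut.smul_def] using this
  have h2 := hS' _ h1
  exact D.comp_eq_of_mem hg' (conj_ne_one hg) (by simpa using h2)

variable [Fact p.Prime]

/-- two `U`-type classes coincide -/
theorem rel_of_U {g g' : G} (hg : g ≠ 1) (hg' : g' ≠ 1) (hgH : g ∈ H) (hgH' : g' ∈ H)
    (hU : IsPGroup p (D.comp g)) (hU' : IsPGroup p (D.comp g')) : D.Rel H g g' := by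
  have hQ : IsPGroup p ((D.XH H g).subgroupOf H) :=
    (hU.to_le (inf_le_right : D.XH H g ≤ D.comp g)).comap_subtype
  have hQ' : IsPGroup p ((D.XH H g').subgroupOf H) :=
    (hU'.to_le (inf_le_right : D.XH H g' ≤ D.comp g')).comap_subtype
  obtain ⟨S, hS⟩ := hQ.exists_le_sylow
  obtain ⟨S', hS'⟩ := hQ'.exists_le_sylow
  refine D.rel_of_sylow H hg hg' hgH S S' (hS ?_) ?_
  · rw [Subgroup.mem_subgroupOf]
    exact D.self_mem_XH H hgH
  · intro y hy
    have h1 : IsPGroup p ((S' : Subgroup H).map H.subtype) := S'.2.map _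
    have h2 : ((S' : Subgroup H).map H.subtype) ≤ H := Subgroup.map_subtype_le _
    have h3 : g' ∈ ((S' : Subgroup H).map H.subtype) := by
      refine ⟨⟨g', hgH'⟩, hS' ?_, rfl⟩
      rw [Subgroup.mem_subgroupOf]
      exact D.self_mem_XH H hgH'
    have h4 := (D.pgroup_le_XH H hg' _ h1 h2 h3).1
    have h5 : y.1 ∈ ((S' : Subgroup H).map H.subtype) := ⟨y, hy, rfl⟩
    exact ((D.mem_XH H).1 (h4 h5)).2

/-- for `U`-type `g ∈ H`, `XH g` contains every `p`-element of `NH g` -/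
theorem XH_sylow_mem {g : G} (hg : g ≠ 1) (hU : IsPGroup p (D.comp g)) {y : G}
    (hy : y ∈ D.NH H g) (hp : p ∣ orderOf y) : y ∈ D.XH H g := by
  by_contra h
  have hyH := ((D.mem_NH H).1 hy).1
  have hyN := ((D.mem_NH H).1 hy).2
  have hyC : y ∉ D.comp g := fun h' => h ((D.mem_XH H).2 ⟨hyH, h'⟩)
  exact D.u_not_dvd g hg hU y hyN hyC hp

/-- classes with components of the same prime order `l`, `l ^ 2 ∤ |H|`, coincide -/
theorem rel_of_prime {l : ℕ} (hl : l.Prime) {g g' : G} (hg : g ≠ 1) (hg' : g' ≠ 1) (hgH : g ∈ H)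
    (hc : Nat.card (D.XH H g) = l) (hc' : Nat.card (D.XH H g') = l)
    (hl2 : ¬ l ^ 2 ∣ Nat.card H) : D.Rel H g g' := by
  have : Fact l.Prime := ⟨hl⟩
  have hldvd : l ∣ Nat.card H := by
    rw [← hc]; exact Subgroup.card_dvd_of_le inf_le_left
  have hfac : (Nat.card H).factorization l = 1 := by
    have hpos : Nat.card H ≠ 0 := Nat.card_pos.ne'
    have h1 : 1 ≤ (Nat.card H).factorization l :=
      (hl.dvd_iff_one_le_factorization hpos).1 hldvd
    have h2 : ¬ 2 ≤ (Nat.card H).factorization l := by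
      intro h
      exact hl2 ((hl.pow_dvd_iff_le_factorization hpos).2 h)
    omega
  have hcard : ∀ g'' : G, Nat.card (D.XH H g'') = l →
      Nat.card ((D.XH H g'').subgroupOf H) = l ^ (Nat.card H).factorization l := by
    intro g'' h
    rw [hfac, pow_one, ← h]
    exact Nat.card_congr (Subgroup.subgroupOfEquivOfLe inf_le_left).toEquiv
  refine D.rel_of_sylow H hg hg' hgH (Sylow.ofCard _ (hcard g hc)) (Sylow.ofCard _ (hcard g' hc'))
    ?_ ?_
  · change _ ∈ ((D.XH H g).subgroupOf H)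
    rw [Subgroup.mem_subgroupOf]
    exact D.self_mem_XH H hgH
  · intro y hy
    change _ ∈ ((D.XH H g').subgroupOf H) at hy
    rw [Subgroup.mem_subgroupOf] at hy
    exact ((D.mem_XH H).1 hy).2

/-- a nonidentity element of a `p`-group has order divisible by `p` -/
theorem dvd_orderOf_of_pow {y : G} (hy : y ≠ 1) {j : ℕ} (h : y ^ p ^ j = 1) : p ∣ orderOf y := by
  have h1 : orderOf y ∣ p ^ j := orderOf_dvd_of_pow_eq_one h
  obtain ⟨m, _, hm⟩ := (Nat.dvd_prime_pow (Fact.out : p.Prime)).1 h1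
  have hm0 : m ≠ 0 := by
    intro h0
    rw [h0, pow_zero, orderOf_eq_one_iff] at hm
    exact hy hm
  rw [hm]
  exact dvd_pow_self p hm0

/-- the index of `NH g` in `H` is `≡ 1` modulo `|XH g|`, for `U`-type `g` -/
theorem card_H_of_U {g : G} (hg : g ≠ 1) (hU : IsPGroup p (D.comp g)) :
    ∃ r, Nat.card H = Nat.card (D.NH H g) * (1 + r * Nat.card (D.XH H g)) := by
  classical
  set T : Set G := {t | t ∈ H ∧ t ∉ D.NH H g} with hTdef
  have hdvd : Nat.card (D.XH H g) * Nat.card (D.NH H g) ∣ Nat.card T := by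
    apply card_dvd_of_free
    · intro x hx n hn t ht
      have hxH := ((D.mem_XH H).1 hx).1
      have hnH := ((D.mem_NH H).1 hn).1
      refine ⟨H.mul_mem (H.mul_mem hxH ht.1) (H.inv_mem hnH), fun h => ht.2 ?_⟩
      have : t = x⁻¹ * (x * t * n⁻¹) * n := by group
      rw [this]
      exact (D.NH H g).mul_mem ((D.NH H g).mul_mem ((D.NH H g).inv_mem (D.XH_le_NH H g hx)) h) hn
    · intro x hx n hn t ht hxt
      by_contra hx1
      have hxC := ((D.mem_XH H).1 hx).2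
      have hn' : n = t⁻¹ * x * t⁻¹⁻¹ := by
        have : n = t⁻¹ * (x * t * n⁻¹) * n := by rw [hxt]; group
        rw [this]; group
      have hn1 : n ≠ 1 := by
        rw [hn']; exact conj_ne_one hx1
      obtain ⟨j, hj⟩ := hU ⟨x, hxC⟩
      have hj' : x ^ p ^ j = 1 := by simpa using congrArg Subtype.val hj
      have hnj : n ^ p ^ j = 1 := by
        rw [hn', conj_pow, hj']; group
      have hnX : n ∈ D.XH H g := D.XH_sylow_mem H hg hU hn (dvd_orderOf_of_pow hn1 hnj)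
      have hnC := ((D.mem_XH H).1 hnX).2
      have hcx : D.comp x = D.comp g := D.comp_eq_of_mem hg hx1 hxC
      have h1 : D.comp (t⁻¹ * x * t⁻¹⁻¹) = D.comp x := by
        rw [← hn', hcx]
        exact D.comp_eq_of_mem hg hn1 hnC
      have h2 : t⁻¹ ∈ nrm (D.comp x) := (D.mem_nrm_comp_iff hx1).2 h1
      have h3 : t ∈ nrm (D.comp g) := by
        rw [← hcx]
        simpa using (nrm (D.comp x)).inv_mem h2
      exact ht.2 ((D.mem_NH H).2 ⟨ht.1, h3⟩)
  obtain ⟨m, hm⟩ := hdvd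
  refine ⟨m, ?_⟩
  have hunion : (H : Set G) = (D.NH H g : Set G) ∪ T := by
    ext t
    simp only [SetLike.mem_coe, Set.mem_union, hTdef, Set.mem_ofPred_eq]
    constructor
    · intro ht
      by_cases h : t ∈ D.NH H g
      · left; exact h
      · right; exact ⟨ht, h⟩
    · rintro (h | h)
      · exact ((D.mem_NH H).1 h).1
      · exact h.1
  have hdisj : Disjoint (D.NH H g : Set G) T := by
    rw [Set.disjoint_left]
    intro t ht ht'
    exact ht'.2 ht
  have h1 : Nat.card H = Nat.card (D.NH H g) + Nat.card T := by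
    have := Set.ncard_union_eq hdisj (Set.toFinite _) (Set.toFinite _)
    rw [← hunion] at this
    exact this
  rw [h1, hm]
  ring

/-- `|NH g| ≤ |XH g| (|XH g| - 1)` for `U`-type `g` -/
theorem card_NH_le_of_U {g : G} (hg : g ≠ 1) (hgH : g ∈ H) (hU : IsPGroup p (D.comp g)) :
    Nat.card (D.NH H g) ≤ Nat.card (D.XH H g) * (Nat.card (D.XH H g) - 1) := by
  classical
  have hmem : ∀ n : D.NH H g, n.1 * g * n.1⁻¹ ∈ D.XH H g := by
    intro n
    have hnH := ((D.mem_NH H).1 n.2).1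
    have hnN := ((D.mem_NH H).1 n.2).2
    exact (D.mem_XH H).2 ⟨H.mul_mem (H.mul_mem hnH hgH) (H.inv_mem hnH),
      (mem_nrm_iff.1 hnN g).1 (D.mem_comp g)⟩
  let f : D.NH H g → {y : D.XH H g // y ≠ 1} := fun n =>
    ⟨⟨n.1 * g * n.1⁻¹, hmem n⟩, fun h => conj_ne_one (x := n.1) hg (congrArg Subtype.val h)⟩
  have hf : ∀ n : D.NH H g, f (Function.invFun f (f n)) = f n :=
    fun n => Function.invFun_eq ⟨n, rfl⟩
  have hQ : ∀ n : D.NH H g, (Function.invFun f (f n)).1⁻¹ * n.1 ∈ D.XH H g := by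
    intro n
    set n' := Function.invFun f (f n) with hn'
    have h1 : n'.1 * g * n'.1⁻¹ = n.1 * g * n.1⁻¹ :=
      congrArg (fun y => y.1.1) (hf n)
    have h2 : (n'.1⁻¹ * n.1) * g * (n'.1⁻¹ * n.1)⁻¹ = g := by
      have : (n'.1⁻¹ * n.1) * g * (n'.1⁻¹ * n.1)⁻¹ = n'.1⁻¹ * (n.1 * g * n.1⁻¹) * n'.1 := by group
      rw [this, ← h1]; group
    have h3 : n'.1⁻¹ * n.1 ∈ D.NH H g := (D.NH H g).mul_mem ((D.NH H g).inv_mem n'.2) n.2
    by_contra h4
    have h5 : n'.1⁻¹ * n.1 ∉ D.comp g :=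
      fun h => h4 ((D.mem_XH H).2 ⟨((D.mem_NH H).1 h3).1, h⟩)
    exact D.u_free g hg hU _ ((D.mem_NH H).1 h3).2 h5 g (D.mem_comp g) hg h2
  let F : D.NH H g → (D.XH H g) × {y : D.XH H g // y ≠ 1} := fun n =>
    (⟨(Function.invFun f (f n)).1⁻¹ * n.1, hQ n⟩, f n)
  have hF : Function.Injective F := by
    intro n n' h
    have h1 : f n = f n' := congrArg Prod.snd h
    have h2 : (Function.invFun f (f n)).1⁻¹ * n.1 = (Function.invFun f (f n')).1⁻¹ * n'.1 :=
      congrArg (fun z => z.1.1) h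
    rw [h1] at h2
    exact Subtype.ext (mul_left_cancel h2)
  have := Nat.card_le_card_of_injective F hF
  rwa [Nat.card_prod, card_subtype_ne_one] at this

/-- the map from a subgroup of the normalizer of `C` to the quotient `N(C)/C` -/
noncomputable def qmap (C L : Subgroup G) (hL : L ≤ nrm C) :
    L →* (nrm C) ⧸ C.subgroupOf (nrm C) :=
  (QuotientGroup.mk' (C.subgroupOf (nrm C))).comp (Subgroup.inclusion hL)

omit [Finite G] in
theorem qmap_eq_one_iff (C L : Subgroup G) (hL : L ≤ nrm C) (x : L) :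
    qmap C L hL x = 1 ↔ x.1 ∈ C := by
  unfold qmap
  rw [MonoidHom.comp_apply, QuotientGroup.mk'_apply, QuotientGroup.eq_one_iff,
    Subgroup.mem_subgroupOf]
  rfl

omit [Finite G] in
theorem qmap_congr (C L L' : Subgroup G) (hL : L ≤ nrm C) (hL' : L' ≤ nrm C) (x : L) (x' : L')
    (h : x.1 = x'.1) : qmap C L hL x = qmap C L' hL' x' := by
  unfold qmap
  rw [MonoidHom.comp_apply, MonoidHom.comp_apply]
  congr 1
  exact Subtype.ext h

/-- for `U`-type `g` with `|NH g| = |XH g| * k`, `k ≥ 2`: a `T`-type element of `H` whose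
`H`-component has order `k` -/
theorem exists_T_of_U {g : G} (hg : g ≠ 1) (hU : IsPGroup p (D.comp g)) {k : ℕ}
    (hk : Nat.card (D.NH H g) = Nat.card (D.XH H g) * k) (hk2 : 2 ≤ k) :
    ∃ n1, n1 ∈ H ∧ n1 ≠ 1 ∧ ¬ IsPGroup p (D.comp n1) ∧ Nat.card (D.XH H n1) = k := by
  classical
  set C := D.comp g with hC
  -- the quotient is cyclic
  obtain ⟨n0, hn0, hcyc⟩ := D.u_cyc g hg hU
  have hQt : IsCyclic ((nrm C) ⧸ C.subgroupOf (nrm C)) := by
    refine ⟨⟨(QuotientGroup.mk' (C.subgroupOf (nrm C)) ⟨n0, hn0⟩)⁻¹, fun x => ?_⟩⟩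
    obtain ⟨m, rfl⟩ := QuotientGroup.mk_surjective x
    obtain ⟨i, hi⟩ := hcyc m.1 m.2
    refine ⟨(i : ℤ), ?_⟩
    have h1 : (QuotientGroup.mk' (C.subgroupOf (nrm C)) (m * ⟨n0, hn0⟩ ^ i)) = 1 := by
      rw [QuotientGroup.mk'_apply, QuotientGroup.eq_one_iff, Subgroup.mem_subgroupOf]
      simpa using hi
    rw [map_mul, map_pow] at h1
    simp only [zpow_natCast, inv_pow]
    rw [QuotientGroup.mk'_apply] at h1 ⊢
    exact (eq_inv_of_mul_eq_one_left h1).symm
  have hNM : D.NH H g ≤ nrm C := inf_le_right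
  set ψN := qmap C (D.NH H g) hNM with hψN
  -- the order of the range
  have hker : Nat.card ψN.ker = Nat.card (D.XH H g) := by
    apply Nat.card_congr
    refine ⟨fun n => ⟨n.1.1, (D.mem_XH H).2 ⟨((D.mem_NH H).1 n.1.2).1,
        (qmap_eq_one_iff C _ hNM n.1).1 (MonoidHom.mem_ker.1 n.2)⟩⟩,
      fun y => ⟨⟨y.1, D.XH_le_NH H g y.2⟩, MonoidHom.mem_ker.2
        ((qmap_eq_one_iff C _ hNM _).2 ((D.mem_XH H).1 y.2).2)⟩, fun n => rfl, fun y => rfl⟩
  have hPpos : 0 < Nat.card (D.XH H g) := Nat.card_pos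
  have hrange : Nat.card ψN.range = k := by
    have h1 := Subgroup.card_mul_index ψN.ker
    rw [Subgroup.index_ker, hker, hk] at h1
    exact Nat.eq_of_mul_eq_mul_left hPpos h1
  obtain ⟨γ, hγ⟩ := IsCyclic.exists_generator (α := ψN.range)
  obtain ⟨n1, hn1⟩ := γ.2
  have hn1C : n1.1 ∉ C := by
    intro h
    have h1 : ψN n1 = 1 := (qmap_eq_one_iff C _ hNM n1).2 h
    have h2 : γ = 1 := Subtype.ext (by rw [← hn1, h1]; rfl)
    have h3 : ∀ x : ψN.range, x = 1 := by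
      intro x
      have := hγ x
      rw [h2, Subgroup.zpowers_one_eq_bot, Subgroup.mem_bot] at this
      exact this
    have h4 : Nat.card ψN.range = 1 := by
      have : Subsingleton ψN.range := ⟨fun a b => by rw [h3 a, h3 b]⟩
      exact Nat.card_unique
    omega
  have hn1H : n1.1 ∈ H := ((D.mem_NH H).1 n1.2).1
  have hn1M : n1.1 ∈ nrm C := ((D.mem_NH H).1 n1.2).2
  have hn11 : n1.1 ≠ 1 := fun h => hn1C (h ▸ C.one_mem)
  have hnotp : ¬ IsPGroup p (D.comp n1.1) := by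
    intro hp
    obtain ⟨j, hj⟩ := hp ⟨n1.1, D.mem_comp _⟩
    have hj' : n1.1 ^ p ^ j = 1 := by simpa using congrArg Subtype.val hj
    exact D.u_not_dvd g hg hU n1.1 hn1M hn1C (dvd_orderOf_of_pow hn11 hj')
  refine ⟨n1.1, hn1H, hn11, hnotp, ?_⟩
  have hXM : D.XH H n1.1 ≤ nrm C :=
    le_trans inf_le_right (D.u_comp g hg hU n1.1 hn1M hn1C)
  have hXN : D.XH H n1.1 ≤ D.NH H g := fun y hy =>
    (D.mem_NH H).2 ⟨((D.mem_XH H).1 hy).1, hXM hy⟩
  set ψX := qmap C (D.XH H n1.1) hXM with hψX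
  have hinj : Function.Injective ψX := by
    rw [injective_iff_map_eq_one]
    intro y hy
    have hyC : y.1 ∈ C := (qmap_eq_one_iff C _ hXM y).1 hy
    by_contra hy1
    have hy1' : y.1 ≠ 1 := fun h => hy1 (Subtype.ext h)
    have h1 : D.comp y.1 = D.comp n1.1 := D.comp_eq_of_mem hn11 hy1' ((D.mem_XH H).1 y.2).2
    have h2 : D.comp y.1 = C := D.comp_eq_of_mem hg hy1' hyC
    apply hn1C
    rw [← h2, h1]
    exact D.mem_comp _
  have hcardX : Nat.card (D.XH H n1.1) = Nat.card ψX.range :=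
    Nat.card_congr (MonoidHom.ofInjective hinj).toEquiv
  have hrangeeq : ψX.range = ψN.range := by
    apply le_antisymm
    · rintro _ ⟨y, rfl⟩
      exact ⟨⟨y.1, hXN y.2⟩, qmap_congr C _ _ hNM hXM _ _ rfl⟩
    · rintro _ ⟨n, rfl⟩
      obtain ⟨z, hz⟩ := Subgroup.mem_zpowers_iff.1 (hγ ⟨ψN n, n, rfl⟩)
      have hz' : (ψN n1) ^ z = ψN n := by
        have := congrArg Subtype.val hz
        rw [Subgroup.coe_zpow, ← hn1] at this
        exact this
      refine ⟨(⟨n1.1, D.self_mem_XH H hn1H⟩ : D.XH H n1.1) ^ z, ?_⟩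
      rw [map_zpow, ← hz']
      congr 1
  rw [hcardX, hrangeeq, hrange]

end Sylow

end DStruct

end Cfsg.Agent.Lib.Helper48.Dickson
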