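import Mathlib

set_option autoImplicit false

/-! # Arithmetic lemmas for the class equation in Dickson's theorem -/

namespace Cfsg.Agent.Lib.Helper48.Dickson

theorem num_00 (h : ℕ) (hh : 1 ≤ h) (e : (0:ℚ) = 1 - 1 / h) : h = 1 := by
  have hh0 : (h:ℚ) ≠ 0 := by positivity
  field_simp at e
  have : (h:ℚ) = 1 := by linarith
  exact_mod_cast this

theorem num_10 (x h : ℕ) (hx : 2 ≤ x) (hh : 1 ≤ h)
    (e : ((x:ℚ) - 1) / x = 1 - 1 / h) : x = h := by
  have hx0 : (x:ℚ) ≠ 0 := by positivity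
  have hh0 : (h:ℚ) ≠ 0 := by positivity
  field_simp at e
  have : (x:ℚ) = h := by linarith
  exact_mod_cast this

theorem num_01 (y h : ℕ) (hy : 2 ≤ y) (hh : 1 ≤ h) (hd : 2 * y ∣ h)
    (e : ((y:ℚ) - 1) / (2 * y) = 1 - 1 / h) : False := by
  have hy0 : (y:ℚ) ≠ 0 := by positivity
  have hh0 : (h:ℚ) ≠ 0 := by positivity
  field_simp at e
  have e' : (h:ℤ) * (y + 1) = 2 * y := by
    have : ((h:ℚ)) * (y + 1) = 2 * y := by linarith
    exact_mod_cast this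
  have h1 : 2 * y ≤ h := Nat.le_of_dvd (by omega) hd
  have h2 : (2:ℤ) * y ≤ h := by exact_mod_cast h1
  have hy' : (2:ℤ) ≤ y := by exact_mod_cast hy
  nlinarith

theorem num_02 (y1 y2 h : ℕ) (hy1 : 2 ≤ y1) (hy2 : 2 ≤ y2) (hh : 1 ≤ h) (hd : 2 * y1 ∣ h)
    (e : ((y1:ℚ) - 1) / (2 * y1) + ((y2:ℚ) - 1) / (2 * y2) = 1 - 1 / h) : False := by
  have hy0 : (y1:ℚ) ≠ 0 := by positivity
  have hy0' : (y2:ℚ) ≠ 0 := by positivity
  have hh0 : (h:ℚ) ≠ 0 := by positivity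
  field_simp at e
  have e' : (h:ℤ) * (y1 + y2) = 2 * y1 * y2 := by
    have : ((h:ℚ)) * (y1 + y2) = 2 * y1 * y2 := by linarith
    exact_mod_cast this
  have h1 : 2 * y1 ≤ h := Nat.le_of_dvd (by omega) hd
  have h2 : (2:ℤ) * y1 ≤ h := by exact_mod_cast h1
  have hy' : (2:ℤ) ≤ y1 := by exact_mod_cast hy1
  have hy'' : (2:ℤ) ≤ y2 := by exact_mod_cast hy2
  nlinarith

theorem num_11 (x y h : ℕ) (hx : 2 ≤ x) (hy : 2 ≤ y) (hh : 1 ≤ h)
    (e : ((x:ℚ) - 1) / x + ((y:ℚ) - 1) / (2 * y) = 1 - 1 / h) :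
    (x = 2 ∧ h = 2 * y) ∨ (x = 3 ∧ y = 2 ∧ h = 12) := by
  have hx0 : (x:ℚ) ≠ 0 := by positivity
  have hy0 : (y:ℚ) ≠ 0 := by positivity
  have hh0 : (h:ℚ) ≠ 0 := by positivity
  field_simp at e
  have e' : (h:ℤ) * (2 * y + x - x * y) = 2 * x * y := by
    have : ((h:ℚ)) * (2 * y + x - x * y) = 2 * x * y := by linarith
    exact_mod_cast this
  have hx' : (2:ℤ) ≤ x := by exact_mod_cast hx
  have hy' : (2:ℤ) ≤ y := by exact_mod_cast hy
  have hh' : (1:ℤ) ≤ h := by exact_mod_cast hh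
  rcases Nat.lt_or_ge x 4 with h4 | h4
  · interval_cases x
    · left
      refine ⟨rfl, ?_⟩
      have : (h:ℤ) = 2 * y := by push_cast at e'; nlinarith
      exact_mod_cast this
    · right
      push_cast at e'
      have hy3 : (y:ℤ) < 3 := by nlinarith
      have : y = 2 := by omega
      subst this
      refine ⟨rfl, rfl, ?_⟩
      push_cast at e'
      omega
  · exfalso
    have hx4 : (4:ℤ) ≤ x := by exact_mod_cast h4
    have h1 : (2:ℤ) * y + x - x * y ≤ 0 := by nlinarith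
    have h2 : (0:ℤ) < 2 * x * y := by positivity
    nlinarith

/-- three classes with `ε = 2`, the first of order 2 -/
theorem num_03a (y2 y3 h : ℕ) (hy2 : 2 ≤ y2) (hy3 : 2 ≤ y3) (hh : 1 ≤ h)
    (e : ((2:ℚ) - 1) / (2 * 2) + ((y2:ℚ) - 1) / (2 * y2) + ((y3:ℚ) - 1) / (2 * y3) = 1 - 1 / h) :
    (y2 = 2 ∧ h = 2 * y3) ∨ (y3 = 2 ∧ h = 2 * y2) ∨
    (y2 = 3 ∧ y3 = 3 ∧ h = 12) ∨ (y2 = 3 ∧ y3 = 4 ∧ h = 24) ∨ (y2 = 4 ∧ y3 = 3 ∧ h = 24) ∨
    (y2 = 3 ∧ y3 = 5 ∧ h = 60) ∨ (y2 = 5 ∧ y3 = 3 ∧ h = 60) := by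
  have hy0 : (y2:ℚ) ≠ 0 := by positivity
  have hy0' : (y3:ℚ) ≠ 0 := by positivity
  have hh0 : (h:ℚ) ≠ 0 := by positivity
  field_simp at e
  have e' : (h:ℤ) * (2 * y2 + 2 * y3 - y2 * y3) = 4 * y2 * y3 := by
    have : ((h:ℚ)) * (2 * y2 + 2 * y3 - y2 * y3) = 4 * y2 * y3 := by linarith
    exact_mod_cast this
  have hy' : (2:ℤ) ≤ y2 := by exact_mod_cast hy2
  have hy'' : (2:ℤ) ≤ y3 := by exact_mod_cast hy3
  have hh' : (1:ℤ) ≤ h := by exact_mod_cast hh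
  have hpos : (0:ℤ) < 2 * y2 + 2 * y3 - y2 * y3 := by
    by_contra hneg
    push Not at hneg
    have : (0:ℤ) < 4 * y2 * y3 := by positivity
    nlinarith
  -- (y2 - 2)(y3 - 2) < 4
  have hb : ((y2:ℤ) - 2) * (y3 - 2) < 4 := by nlinarith
  rcases Nat.lt_or_ge y2 4 with h4 | h4
  · interval_cases y2
    · left
      refine ⟨rfl, ?_⟩
      have : (h:ℤ) = 2 * y3 := by push_cast at e'; nlinarith
      exact_mod_cast this
    · -- y2 = 3 : y3 < 6
      have : (y3:ℤ) < 6 := by push_cast at hb; nlinarith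
      have h6 : y3 < 6 := by exact_mod_cast this
      interval_cases y3
      · right; left
        refine ⟨rfl, ?_⟩
        push_cast at e'; omega
      · right; right; left
        refine ⟨rfl, rfl, ?_⟩
        push_cast at e'; omega
      · right; right; right; left
        refine ⟨rfl, rfl, ?_⟩
        push_cast at e'; omega
      · right; right; right; right; right; left
        refine ⟨rfl, rfl, ?_⟩
        push_cast at e'; omega
  · have h4' : (4:ℤ) ≤ y2 := by exact_mod_cast h4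
    have : (y3:ℤ) < 4 := by nlinarith
    have h6 : y3 < 4 := by exact_mod_cast this
    interval_cases y3
    · right; left
      refine ⟨rfl, ?_⟩
      have : (h:ℤ) = 2 * y2 := by push_cast at e'; nlinarith
      exact_mod_cast this
    · -- y3 = 3, y2 ∈ {4,5}
      have : (y2:ℤ) < 6 := by push_cast at hb; nlinarith
      have h7 : y2 < 6 := by exact_mod_cast this
      interval_cases y2
      · right; right; right; right; left
        refine ⟨rfl, rfl, ?_⟩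
        push_cast at e'; omega
      · right; right; right; right; right; right
        refine ⟨rfl, rfl, ?_⟩
        push_cast at e'; omega

/-- three classes with `ε = 2`: one of them has order 2 -/
theorem num_03_min (y1 y2 y3 h : ℕ) (hy1 : 2 ≤ y1) (hy2 : 2 ≤ y2) (hy3 : 2 ≤ y3) (hh : 1 ≤ h)
    (e : ((y1:ℚ) - 1) / (2 * y1) + ((y2:ℚ) - 1) / (2 * y2) + ((y3:ℚ) - 1) / (2 * y3) = 1 - 1 / h) :
    y1 = 2 ∨ y2 = 2 ∨ y3 = 2 := by
  by_contra hne
  push Not at hne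
  obtain ⟨h1, h2, h3⟩ := hne
  have g1 : (3:ℚ) ≤ y1 := by exact_mod_cast (by omega : 3 ≤ y1)
  have g2 : (3:ℚ) ≤ y2 := by exact_mod_cast (by omega : 3 ≤ y2)
  have g3 : (3:ℚ) ≤ y3 := by exact_mod_cast (by omega : 3 ≤ y3)
  have hh0 : (0:ℚ) < h := by positivity
  have b1 : (1:ℚ) / 3 ≤ ((y1:ℚ) - 1) / (2 * y1) := by
    rw [div_le_div_iff₀ (by norm_num) (by positivity)]; linarith
  have b2 : (1:ℚ) / 3 ≤ ((y2:ℚ) - 1) / (2 * y2) := by
    rw [div_le_div_iff₀ (by norm_num) (by positivity)]; linarith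
  have b3 : (1:ℚ) / 3 ≤ ((y3:ℚ) - 1) / (2 * y3) := by
    rw [div_le_div_iff₀ (by norm_num) (by positivity)]; linarith
  have : (0:ℚ) < 1 / h := by positivity
  linarith

end Cfsg.Agent.Lib.Helper48.Dickson
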