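import Mathlib

set_option autoImplicit false

/-! # Arithmetic lemmas for the class equation: the case `p ∣ |H|` -/

namespace Cfsg.Agent.Lib.Helper48.Dickson

theorem numU_00 (P k r h : ℕ) (hP : 2 ≤ P) (hk : 1 ≤ k) (hh : h = P * k * (1 + r * P))
    (e : ((P:ℚ) - 1) / (P * k) = 1 - 1 / h) : r = 0 := by
  have hP0 : (P:ℚ) ≠ 0 := by positivity
  have hk0 : (k:ℚ) ≠ 0 := by positivity
  have hhpos : 1 ≤ h := by
    rw [hh]; exact Nat.one_le_iff_ne_zero.2 (by positivity)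
  have hh0 : (h:ℚ) ≠ 0 := by positivity
  field_simp at e
  have e' : ((P:ℤ) - 1) * h = P * k * (h - 1) := by
    have : ((P:ℚ) - 1) * h = P * k * (h - 1) := by linarith
    exact_mod_cast this
  have hhz : (h:ℤ) = P * k * (1 + r * P) := by exact_mod_cast hh
  rw [hhz] at e'
  have hP' : (2:ℤ) ≤ P := by exact_mod_cast hP
  have hk' : (1:ℤ) ≤ k := by exact_mod_cast hk
  have hr' : (0:ℤ) ≤ r := by positivity
  -- c (Pk - P + 1) = 1
  have hPk : (0:ℤ) < P * k := by positivity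
  have e2 : ((P:ℤ) - 1) * (1 + r * P) = P * k * (1 + r * P) - 1 := by
    have : (P:ℤ) * k * (((P:ℤ) - 1) * (1 + r * P)) = P * k * (P * k * (1 + r * P) - 1) := by
      linarith
    exact mul_left_cancel₀ hPk.ne' this
  have e3 : (1 + (r:ℤ) * P) * (P * k - P + 1) = 1 := by linarith
  have h1 : (1:ℤ) ≤ P * k - P + 1 := by nlinarith
  have h2 : (1 + (r:ℤ) * P) ≤ 1 := by nlinarith
  have h3 : (r:ℤ) * P ≤ 0 := by linarith
  have h4 : (r:ℤ) = 0 := by
    by_contra hne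
    have : (1:ℤ) ≤ r := by omega
    nlinarith
  exact_mod_cast h4

theorem numU_10 (P k r h x : ℕ) (hP : 2 ≤ P) (hk : 1 ≤ k) (hkP : k ≤ P - 1) (hx : 2 ≤ x)
    (hh : h = P * k * (1 + r * P))
    (e : ((P:ℚ) - 1) / (P * k) + ((x:ℚ) - 1) / x = 1 - 1 / h) : r = 0 := by
  have hP0 : (P:ℚ) ≠ 0 := by positivity
  have hk0 : (k:ℚ) ≠ 0 := by positivity
  have hx0 : (x:ℚ) ≠ 0 := by positivity
  have hhpos : 1 ≤ h := by
    rw [hh]; exact Nat.one_le_iff_ne_zero.2 (by positivity)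
  have hh0 : (h:ℚ) ≠ 0 := by positivity
  field_simp at e
  have e' : (((P:ℤ) - 1) * x + P * k * (x - 1)) * h = P * k * x * (h - 1) := by
    have : (((P:ℚ) - 1) * x + P * k * (x - 1)) * h = P * k * x * (h - 1) := by linarith
    exact_mod_cast this
  have hhz : (h:ℤ) = P * k * (1 + r * P) := by exact_mod_cast hh
  have hP' : (2:ℤ) ≤ P := by exact_mod_cast hP
  have hk' : (1:ℤ) ≤ k := by exact_mod_cast hk
  have hkP' : (k:ℤ) ≤ P - 1 := by
    have : k + 1 ≤ P := by omega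
    have : ((k + 1 : ℕ) : ℤ) ≤ P := by exact_mod_cast this
    push_cast at this; linarith
  have hr' : (0:ℤ) ≤ r := by positivity
  have hx' : (2:ℤ) ≤ x := by exact_mod_cast hx
  have hPk : (0:ℤ) < P * k := by positivity
  -- x * (1 + r (P-1)) = k (1 + r P)
  have e2 : (x:ℤ) * (1 + r * (P - 1)) = k * (1 + r * P) := by
    have e1 : (P:ℤ) * k * x = ((P:ℤ) - 1) * x * h + P * k * h - P * k * x * h + P * k * x * h - P * k * h
        + (P * k * x - (((P:ℤ) - 1) * x * h)) := by ring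
    have e3 : (P:ℤ) * k * x = ((P:ℤ) * k - (P - 1) * x) * h := by linarith
    rw [hhz] at e3
    have e4 : (P:ℤ) * k * x = P * k * (((P:ℤ) * k - (P - 1) * x) * (1 + r * P)) := by linarith
    have e5 := mul_left_cancel₀ hPk.ne' e4
    -- x = (P k - (P-1) x)(1 + r P)
    nlinarith
  -- k = a (P k - (P-1) x)
  have e6 : (k:ℤ) = (1 + r * (P - 1)) * (P * k - (P - 1) * x) := by
    linear_combination ((P:ℤ) - 1) * e2
  by_contra hne
  have hr1 : (1:ℤ) ≤ r := by
    have : 1 ≤ r := Nat.one_le_iff_ne_zero.2 hne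
    exact_mod_cast this
  have ha : (P:ℤ) ≤ 1 + r * (P - 1) := by nlinarith
  have ht : (1:ℤ) ≤ P * k - (P - 1) * x := by
    by_contra hlt
    push Not at hlt
    have : (P:ℤ) * k - (P - 1) * x ≤ 0 := by omega
    have : (1 + (r:ℤ) * (P - 1)) * (P * k - (P - 1) * x) ≤ 0 :=
      mul_nonpos_of_nonneg_of_nonpos (by nlinarith) this
    linarith
  nlinarith

theorem numU_01 (P k r h y : ℕ) (hP : 2 ≤ P) (hk : 1 ≤ k) (hkP : k ≤ P - 1) (hy : 2 ≤ y)
    (hd : 2 * y ∣ h) (hh : h = P * k * (1 + r * P))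
    (e : ((P:ℚ) - 1) / (P * k) + ((y:ℚ) - 1) / (2 * y) = 1 - 1 / h) :
    (P = 2 ∧ k = 1 ∧ h = 2 * y) ∨ (P = 3 ∧ k = 1 ∧ y = 2 ∧ h = 12) := by
  have hhpos : 1 ≤ h := by
    rw [hh]; exact Nat.one_le_iff_ne_zero.2 (by positivity)
  have hPq : (2:ℚ) ≤ P := by exact_mod_cast hP
  have hyq : (2:ℚ) ≤ y := by exact_mod_cast hy
  have hkq : (1:ℚ) ≤ k := by exact_mod_cast hk
  have hhq : (0:ℚ) < h := by positivity
  have h2y : 2 * y ≤ h := Nat.le_of_dvd (by omega) hd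
  have h2yq : (2:ℚ) * y ≤ h := by exact_mod_cast h2y
  have hinv : (1:ℚ) / h ≤ 1 / (2 * y) := by
    apply one_div_le_one_div_of_le (by positivity) h2yq
  have e1 : ((P:ℚ) - 1) / (P * k) + 1 / h = 1 / 2 + 1 / (2 * y) := by
    have : ((y:ℚ) - 1) / (2 * y) = 1 / 2 - 1 / (2 * y) := by
      field_simp
    rw [this] at e; linarith
  have hk1 : k = 1 := by
    by_contra hne
    have hk2 : (2:ℚ) ≤ k := by exact_mod_cast (by omega : 2 ≤ k)
    have : ((P:ℚ) - 1) / (P * k) < 1 / 2 := by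
      rw [div_lt_div_iff₀ (by positivity) (by norm_num)]
      nlinarith
    linarith
  subst hk1
  simp only [Nat.cast_one, mul_one] at e1
  obtain ⟨a, ha⟩ : ∃ a : ℚ, a = 1 / h := ⟨_, rfl⟩
  obtain ⟨b, hb⟩ : ∃ b : ℚ, b = 1 / (2 * y) := ⟨_, rfl⟩
  have hapos : 0 < a := by rw [ha]; positivity
  have hb4 : b ≤ 1 / 4 := by
    rw [hb]; exact one_div_le_one_div_of_le (by norm_num) (by linarith)
  rw [← ha, ← hb] at e1
  have hab : ∀ c : ℚ, a = c * b → (h:ℚ) * c = 2 * y := by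
    intro c hc
    rw [ha, hb] at hc
    have hy0 : (y:ℚ) ≠ 0 := by positivity
    have hh0 : (h:ℚ) ≠ 0 := by positivity
    field_simp at hc
    linarith
  rcases Nat.lt_or_ge P 4 with h4 | h4
  · interval_cases P
    · left
      refine ⟨rfl, rfl, ?_⟩
      push_cast at e1
      have h3 := hab 1 (by linarith)
      have : (h:ℚ) = 2 * y := by linarith
      exact_mod_cast this
    · right
      push_cast at e1
      have hy2 : y = 2 := by
        by_contra hne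
        have : (3:ℚ) ≤ y := by exact_mod_cast (by omega : 3 ≤ y)
        have : b ≤ 1 / 6 := by
          rw [hb]; apply one_div_le_one_div_of_le (by norm_num); linarith
        linarith
      subst hy2
      refine ⟨rfl, rfl, rfl, ?_⟩
      have hb' : b = 1 / 4 := by rw [hb]; norm_num
      have ha' : a = 1 / 12 := by rw [hb'] at e1; linarith
      have h3 := hab (1/3) (by rw [ha', hb']; norm_num)
      have : (h:ℚ) = 12 := by push_cast at h3; linarith
      exact_mod_cast this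
  · exfalso
    have h4q : (4:ℚ) ≤ P := by exact_mod_cast h4
    have : ((P:ℚ) - 1) / P = 1 - 1 / P := by
      have hP0 : (P:ℚ) ≠ 0 := by positivity
      field_simp
    rw [this] at e1
    have : (1:ℚ) / P ≤ 1 / 4 := one_div_le_one_div_of_le (by norm_num) h4q
    linarith


theorem half_sub (y : ℕ) (hy : 2 ≤ y) : ((y:ℚ) - 1) / (2 * y) = 1 / 2 - 1 / (2 * y) := by
  have hy0 : (y:ℚ) ≠ 0 := by positivity
  field_simp

theorem quarter_le (y : ℕ) (hy : 2 ≤ y) : (1:ℚ) / 4 ≤ ((y:ℚ) - 1) / (2 * y) := by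
  have hyq : (2:ℚ) ≤ y := by exact_mod_cast hy
  rw [div_le_div_iff₀ (by norm_num) (by positivity)]; linarith

theorem half_le (x : ℕ) (hx : 2 ≤ x) : (1:ℚ) / 2 ≤ ((x:ℚ) - 1) / x := by
  have hxq : (2:ℚ) ≤ x := by exact_mod_cast hx
  rw [div_le_div_iff₀ (by norm_num) (by positivity)]; linarith

theorem u_term_pos (P k : ℕ) (hP : 2 ≤ P) (hk : 1 ≤ k) : (0:ℚ) < ((P:ℚ) - 1) / (P * k) := by
  have hPq : (2:ℚ) ≤ P := by exact_mod_cast hP
  have hkq : (1:ℚ) ≤ k := by exact_mod_cast hk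
  apply div_pos (by linarith) (by positivity)

theorem u_term_k1 (P : ℕ) (hP : 2 ≤ P) : (1:ℚ) / 2 ≤ ((P:ℚ) - 1) / (P * (1:ℕ)) := by
  have hPq : (2:ℚ) ≤ P := by exact_mod_cast hP
  simp only [Nat.cast_one, mul_one]
  rw [div_le_div_iff₀ (by norm_num) (by positivity)]; linarith

/-- with `k = 1` two further classes with `ε = 2` are impossible -/
theorem numU_02_k1 (P h y1 y2 : ℕ) (hP : 2 ≤ P) (hy1 : 2 ≤ y1) (hy2 : 2 ≤ y2) (hh : 1 ≤ h)
    (e : ((P:ℚ) - 1) / (P * (1:ℕ)) + (((y1:ℚ) - 1) / (2 * y1) + ((y2:ℚ) - 1) / (2 * y2))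
      = 1 - 1 / h) : False := by
  have := u_term_k1 P hP
  have := quarter_le y1 hy1
  have := quarter_le y2 hy2
  have : (0:ℚ) < 1 / h := by positivity
  linarith

/-- the main case: the `U`-class, the class of order `k` and one more class, all with `ε = 2` -/
theorem numU_02 (P k r h y2 : ℕ) (hP : 2 ≤ P) (hk : 2 ≤ k) (hkP : k ≤ P - 1) (hr : 1 ≤ r)
    (hy2 : 2 ≤ y2) (hh : h = P * k * (1 + r * P))
    (e : ((P:ℚ) - 1) / (P * k) + (((k:ℚ) - 1) / (2 * k) + ((y2:ℚ) - 1) / (2 * y2)) = 1 - 1 / h) :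
    (r = 1 ∧ (k = P - 1 ∨ 2 * k = P - 1)) ∨ (P = 3 ∧ r = 3 ∧ k = 2 ∧ y2 = 5 ∧ h = 60) := by
  have hP0 : (P:ℚ) ≠ 0 := by positivity
  have hk0 : (k:ℚ) ≠ 0 := by positivity
  have hy0 : (y2:ℚ) ≠ 0 := by positivity
  have hhpos : 1 ≤ h := by
    rw [hh]; exact Nat.one_le_iff_ne_zero.2 (by positivity)
  have hh0 : (h:ℚ) ≠ 0 := by positivity
  field_simp at e
  have hhz : (h:ℤ) = P * k * (1 + r * P) := by exact_mod_cast hh
  have hP' : (2:ℤ) ≤ P := by exact_mod_cast hP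
  have hk' : (2:ℤ) ≤ k := by exact_mod_cast hk
  have hkP' : (k:ℤ) ≤ P - 1 := by
    have : k + 1 ≤ P := by omega
    have : ((k + 1 : ℕ) : ℤ) ≤ P := by exact_mod_cast this
    push_cast at this; linarith
  have hr' : (1:ℤ) ≤ r := by exact_mod_cast hr
  have hy' : (2:ℤ) ≤ y2 := by exact_mod_cast hy2
  have hPk : (0:ℤ) < P * k := by positivity
  -- y2 * ((P-2) h + 2 P k) = P k h   (from the equation)
  have e1 : (y2:ℤ) * (((P:ℤ) - 2) * h + 2 * P * k) = P * k * h := by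
    have : (y2:ℚ) * (((P:ℚ) - 2) * h + 2 * P * k) = P * k * h := by linarith
    exact_mod_cast this
  rw [hhz] at e1
  -- y2 * u = k * (u + 2 r),  u = 1 + r (P - 2)
  have e2 : (y2:ℤ) * (1 + r * (P - 2)) = k * ((1 + r * (P - 2)) + 2 * r) := by
    have e3 : (P:ℤ) * k * ((y2:ℤ) * (P * (1 + r * (P - 2)))) =
        P * k * (P * k * (1 + r * P)) := by
      have : ((P:ℤ) - 2) * (P * k * (1 + r * P)) + 2 * P * k = P * k * (P * (1 + r * (P - 2))) := by
        ring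
      rw [this] at e1
      linarith
    have e4 := mul_left_cancel₀ hPk.ne' e3
    have hPpos : (0:ℤ) < P := by linarith
    have e5 : (P:ℤ) * ((y2:ℤ) * (1 + r * (P - 2))) = P * (k * ((1 + r * (P - 2)) + 2 * r)) := by
      linarith
    exact mul_left_cancel₀ hPpos.ne' e5
  -- 2 k = u * t
  have e6 : (2:ℤ) * k = (1 + r * (P - 2)) * (2 * k - (P - 2) * (y2 - k)) := by
    linear_combination ((P:ℤ) - 2) * e2
  have hu : (1:ℤ) ≤ 1 + r * (P - 2) := by nlinarith
  have ht : (1:ℤ) ≤ 2 * k - (P - 2) * (y2 - k) := by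
    by_contra hlt
    push Not at hlt
    have : (2:ℤ) * k - (P - 2) * (y2 - k) ≤ 0 := by omega
    have : (1 + (r:ℤ) * (P - 2)) * (2 * k - (P - 2) * (y2 - k)) ≤ 0 :=
      mul_nonpos_of_nonneg_of_nonpos (by linarith) this
    linarith
  have hule : 1 + (r:ℤ) * (P - 2) ≤ 2 * k := by nlinarith
  have hP3 : (3:ℤ) ≤ P := by linarith
  -- r ≤ 3
  rcases Nat.lt_or_ge r 2 with hr2 | hr2
  · -- r = 1
    have hr1 : r = 1 := by omega
    subst hr1
    left
    refine ⟨rfl, ?_⟩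
    push_cast at e6 hule
    have hu' : 1 + 1 * ((P:ℤ) - 2) = P - 1 := by ring
    rw [hu'] at e6
    -- 2k = (P-1) t, k ≤ P - 1, t ≥ 1  => t ∈ {1,2}
    have ht2 : (2:ℤ) * k - (P - 2) * (y2 - k) ≤ 2 := by
      by_contra hgt
      push Not at hgt
      have : (3:ℤ) ≤ 2 * k - (P - 2) * (y2 - k) := by omega
      nlinarith
    have hcases : (2:ℤ) * k - (P - 2) * (y2 - k) = 1 ∨ (2:ℤ) * k - (P - 2) * (y2 - k) = 2 := by omega
    rcases hcases with h1 | h1
    · right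
      rw [h1] at e6
      have : (2:ℤ) * k = P - 1 := by linarith
      omega
    · left
      rw [h1] at e6
      have : (k:ℤ) = P - 1 := by linarith
      omega
  · have hr2' : (2:ℤ) ≤ r := by exact_mod_cast hr2
    rcases Nat.lt_or_ge r 3 with hr3 | hr3
    · -- r = 2 : u = 2P - 3 odd
      exfalso
      have hr2e : r = 2 := by omega
      subst hr2e
      push_cast at e6 hule
      have hu' : 1 + 2 * ((P:ℤ) - 2) = 2 * P - 3 := by ring
      rw [hu'] at e6 hule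
      -- t = 1 forced
      have ht1 : (2:ℤ) * k - (P - 2) * (y2 - k) = 1 := by
        by_contra hne
        have : (2:ℤ) ≤ 2 * k - (P - 2) * (y2 - k) := by omega
        nlinarith
      rw [ht1] at e6
      omega
    · -- r ≥ 3 : P = 3, r = 3
      have hr3' : (3:ℤ) ≤ r := by exact_mod_cast hr3
      have hPle : (P:ℤ) ≤ 3 := by nlinarith
      have hPe : (P:ℤ) = 3 := by linarith
      have hPn : P = 3 := by exact_mod_cast hPe
      subst hPn
      push_cast at e6 hule hkP' e2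
      have hk2 : (k:ℤ) = 2 := by linarith
      have hkn : k = 2 := by exact_mod_cast hk2
      subst hkn
      push_cast at e6 hule e2
      have hr3e : (r:ℤ) = 3 := by linarith
      have hrn : r = 3 := by exact_mod_cast hr3e
      subst hrn
      push_cast at e2
      right
      have hy5 : (y2:ℤ) = 5 := by linarith
      have hyn : y2 = 5 := by exact_mod_cast hy5
      refine ⟨rfl, rfl, rfl, hyn, ?_⟩
      rw [hh]

/-- the `U`-class together with three classes with `ε = 2` is impossible -/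
theorem numU_03_k1 (P h y1 y2 y3 : ℕ) (hP : 2 ≤ P) (hy1 : 2 ≤ y1) (hy2 : 2 ≤ y2) (hy3 : 2 ≤ y3)
    (hh : 1 ≤ h)
    (e : ((P:ℚ) - 1) / (P * (1:ℕ)) + (((y1:ℚ) - 1) / (2 * y1) + ((y2:ℚ) - 1) / (2 * y2) +
      ((y3:ℚ) - 1) / (2 * y3)) = 1 - 1 / h) : False := by
  have := u_term_k1 P hP
  have := quarter_le y1 hy1
  have := quarter_le y2 hy2
  have := quarter_le y3 hy3
  have : (0:ℚ) < 1 / h := by positivity
  linarith

theorem u_plus_k (P k : ℕ) (hP : 2 ≤ P) (hk : 2 ≤ k) :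
    (1:ℚ) / 2 ≤ ((P:ℚ) - 1) / (P * k) + ((k:ℚ) - 1) / (2 * k) := by
  have hPq : (2:ℚ) ≤ P := by exact_mod_cast hP
  have hkq : (2:ℚ) ≤ k := by exact_mod_cast hk
  have hP0 : (P:ℚ) ≠ 0 := by positivity
  have hk0 : (k:ℚ) ≠ 0 := by positivity
  have : ((P:ℚ) - 1) / (P * k) + ((k:ℚ) - 1) / (2 * k) = 1 / 2 + (P - 2) / (2 * P * k) := by
    field_simp
    ring
  rw [this]
  have : (0:ℚ) ≤ ((P:ℚ) - 2) / (2 * P * k) := div_nonneg (by linarith) (by positivity)
  linarith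

theorem numU_03 (P k h y2 y3 : ℕ) (hP : 2 ≤ P) (hk : 2 ≤ k) (hy2 : 2 ≤ y2) (hy3 : 2 ≤ y3)
    (hh : 1 ≤ h)
    (e : ((P:ℚ) - 1) / (P * k) + (((k:ℚ) - 1) / (2 * k) + ((y2:ℚ) - 1) / (2 * y2) +
      ((y3:ℚ) - 1) / (2 * y3)) = 1 - 1 / h) : False := by
  have := u_plus_k P k hP hk
  have := quarter_le y2 hy2
  have := quarter_le y3 hy3
  have : (0:ℚ) < 1 / h := by positivity
  linarith

theorem numU_11_k1 (P h x y : ℕ) (hP : 2 ≤ P) (hx : 2 ≤ x) (hy : 2 ≤ y) (hh : 1 ≤ h)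
    (e : ((P:ℚ) - 1) / (P * (1:ℕ)) + (((x:ℚ) - 1) / x + ((y:ℚ) - 1) / (2 * y)) = 1 - 1 / h) :
    False := by
  have := u_term_k1 P hP
  have := half_le x hx
  have := quarter_le y hy
  have : (0:ℚ) < 1 / h := by positivity
  linarith

/-- `U`-class, a self-normalizing class and a class with `ε = 2`, the latter of order `k` -/
theorem numU_11_y (P k h x : ℕ) (hP : 2 ≤ P) (hk : 2 ≤ k) (hx : 2 ≤ x) (hh : 1 ≤ h)
    (e : ((P:ℚ) - 1) / (P * k) + (((x:ℚ) - 1) / x + ((k:ℚ) - 1) / (2 * k)) = 1 - 1 / h) :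
    False := by
  have := u_plus_k P k hP hk
  have := half_le x hx
  have : (0:ℚ) < 1 / h := by positivity
  linarith

/-- `U`-class, a self-normalizing class of order `k` and a class with `ε = 2` -/
theorem numU_11_x (P k h y : ℕ) (hP : 2 ≤ P) (hk : 2 ≤ k) (hkP : k ≤ P - 1) (hy : 2 ≤ y)
    (hh : 1 ≤ h)
    (e : ((P:ℚ) - 1) / (P * k) + (((k:ℚ) - 1) / k + ((y:ℚ) - 1) / (2 * y)) = 1 - 1 / h) :
    False := by
  have hPq : (2:ℚ) ≤ P := by exact_mod_cast hP
  have hkq : (2:ℚ) ≤ k := by exact_mod_cast hk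
  have hP0 : (P:ℚ) ≠ 0 := by positivity
  have hk0 : (k:ℚ) ≠ 0 := by positivity
  have h1 : ((P:ℚ) - 1) / (P * k) + ((k:ℚ) - 1) / k = 1 - 1 / (P * k) := by
    field_simp
    ring
  have h2 : (1:ℚ) / (P * k) ≤ 1 / 4 := by
    apply one_div_le_one_div_of_le (by norm_num); nlinarith
  have := quarter_le y hy
  have : (0:ℚ) < 1 / h := by positivity
  have h3 : (1:ℚ) / (P * k) < 1 / 4 ∨ (1:ℚ) / (P * k) = 1 / 4 := lt_or_eq_of_le h2
  rcases h3 with h3 | h3
  · linarith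
  · -- P k = 4 : P = 2 = k, but k ≤ P - 1
    have : (P:ℚ) * k = 4 := by
      field_simp at h3
      linarith
    have hPk4 : P * k = 4 := by exact_mod_cast this
    have : P ≤ 2 := by nlinarith
    omega

/-- in the doubly transitive case, the order of the second torus -/
theorem numU_02_y2 (P k h y2 : ℕ) (hP : 2 ≤ P) (hk : 2 ≤ k) (hy2 : 2 ≤ y2)
    (hh : h = P * k * (1 + 1 * P))
    (e : ((P:ℚ) - 1) / (P * k) + (((k:ℚ) - 1) / (2 * k) + ((y2:ℚ) - 1) / (2 * y2)) = 1 - 1 / h) :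
    y2 * (P - 1) = k * (P + 1) := by
  have hPq : (0:ℚ) < P := by exact_mod_cast (by omega : 0 < P)
  have hkq : (0:ℚ) < k := by exact_mod_cast (by omega : 0 < k)
  have hyq : (0:ℚ) < y2 := by exact_mod_cast (by omega : 0 < y2)
  have hhq : (h:ℚ) = P * k * (1 + P) := by rw [hh]; push_cast; ring
  rw [hhq] at e
  have h1P : (0:ℚ) < 1 + P := by linarith
  field_simp at e
  have key : (y2:ℚ) * ((P:ℚ) - 1) = k * (P + 1) := by
    have hne : (P:ℚ) * (1 + P) ≠ 0 := by positivity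
    have : (P:ℚ) * (1 + P) * ((y2:ℚ) * ((P:ℚ) - 1) - k * (P + 1)) = 0 := by
      nlinarith [e]
    rcases mul_eq_zero.1 this with h0 | h0
    · exact absurd h0 hne
    · linarith
  have hP1 : ((P - 1 : ℕ) : ℚ) = (P:ℚ) - 1 := by
    rw [Nat.cast_sub (by omega)]; simp
  have : ((y2 * (P - 1) : ℕ) : ℚ) = ((k * (P + 1) : ℕ) : ℚ) := by
    push_cast
    rw [hP1]
    exact key
  exact_mod_cast this

end Cfsg.Agent.Lib.Helper48.Dickson
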