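import Mathlib
import Cfsg.Agent.Lib.Helper48.Dickson.Numerics
import Cfsg.Agent.Lib.Helper48.Dickson.NumericsU

set_option autoImplicit false
set_option maxHeartbeats 1000000

/-! # The numerical classification of the solutions of the class equation -/

namespace Cfsg.Agent.Lib.Helper48.Dickson

open Finset

section

variable {ι : Type*} [Fintype ι] [DecidableEq ι]

/-- the possible numerical outcomes -/
def NumOutcome (h : ℕ) (x n : ι → ℕ) (U : ι → Prop) : Prop :=
  h = 1 ∨
  (∃ i, ¬ U i ∧ x i = h) ∨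
  (∃ i, ¬ U i ∧ n i = h ∧ n i = 2 * x i) ∨
  (∃ i, U i ∧ n i = h) ∨
  (h = 12 ∧ ∃ i, x i = 3 ∧ n i = 3) ∨
  (h = 24 ∧ ∃ i, ¬ U i ∧ x i = 3 ∧ n i = 6) ∨
  (h = 60 ∧ (∀ i, (x i = 2 ∧ n i = 4) ∨ (x i = 3 ∧ n i = 6) ∨ (x i = 5 ∧ n i = 10)) ∧
    (∀ i j, x i = 2 → x j = 2 → i = j)) ∨
  (∃ i, U i ∧ ∃ k, 2 ≤ k ∧ n i = x i * k ∧ h = x i * k * (1 + x i) ∧
    (k = x i - 1 ∨ 2 * k = x i - 1) ∧
    ∀ j, U j ∨ x j = k ∨ x j * (x i - 1) = k * (x i + 1))

theorem sum_card_one {s : Finset ι} (f : ι → ℚ) (hs : s.card = 1) :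
    ∃ a, s = {a} ∧ ∑ i ∈ s, f i = f a := by
  obtain ⟨a, ha⟩ := Finset.card_eq_one.1 hs
  exact ⟨a, ha, by rw [ha, Finset.sum_singleton]⟩

theorem sum_card_two {s : Finset ι} (f : ι → ℚ) (hs : s.card = 2) :
    ∃ a b, a ≠ b ∧ s = {a, b} ∧ ∑ i ∈ s, f i = f a + f b := by
  obtain ⟨a, b, hab, hs'⟩ := Finset.card_eq_two.1 hs
  exact ⟨a, b, hab, hs', by rw [hs', Finset.sum_pair hab]⟩

theorem sum_card_three {s : Finset ι} (f : ι → ℚ) (hs : s.card = 3) :
    ∃ a b c, a ≠ b ∧ a ≠ c ∧ b ≠ c ∧ s = {a, b, c} ∧ ∑ i ∈ s, f i = f a + f b + f c := by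
  obtain ⟨a, b, c, hab, hac, hbc, hs'⟩ := Finset.card_eq_three.1 hs
  refine ⟨a, b, c, hab, hac, hbc, hs', ?_⟩
  rw [hs', Finset.sum_insert (by simp [hab, hac]), Finset.sum_pair hbc]
  ring

theorem numeric_classification (h : ℕ) (x n : ι → ℕ) (U : ι → Prop) [DecidablePred U]
    (hh : 1 ≤ h)
    (hx : ∀ i, 2 ≤ x i) (hnh : ∀ i, n i ∣ h)
    (hT : ∀ i, ¬ U i → n i = x i ∨ n i = 2 * x i)
    (hU1 : ∀ i j, U i → U j → i = j)
    (hU2 : ∀ i, U i → ∃ k r, n i = x i * k ∧ h = x i * k * (1 + r * x i) ∧ 1 ≤ k ∧ k ≤ x i - 1 ∧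
      (2 ≤ k → ∃ j, ¬ U j ∧ x j = k))
    (hf : ∀ i j, x i = x j → (x i).Prime → ¬ (x i) ^ 2 ∣ h → i = j)
    (hsum : ∑ i, ((x i : ℚ) - 1) / (n i : ℚ) = 1 - 1 / (h : ℚ)) :
    NumOutcome h x n U := by
  classical
  set f : ι → ℚ := fun i => ((x i : ℚ) - 1) / (n i : ℚ) with hfdef
  -- the three kinds of classes
  set A : Finset ι := univ.filter (fun i => ¬ U i ∧ n i = x i) with hA
  set B : Finset ι := univ.filter (fun i => ¬ U i ∧ n i ≠ x i) with hB
  set Us : Finset ι := univ.filter (fun i => U i) with hUs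
  have hsplit : ∑ i, f i = ∑ i ∈ Us, f i + (∑ i ∈ A, f i + ∑ i ∈ B, f i) := by
    have h1 : ∑ i, f i = ∑ i ∈ univ.filter (fun i => U i), f i +
        ∑ i ∈ univ.filter (fun i => ¬ U i), f i :=
      (Finset.sum_filter_add_sum_filter_not univ (fun i => U i) f).symm
    have h2 : ∑ i ∈ univ.filter (fun i => ¬ U i), f i =
        ∑ i ∈ (univ.filter (fun i => ¬ U i)).filter (fun i => n i = x i), f i +
        ∑ i ∈ (univ.filter (fun i => ¬ U i)).filter (fun i => ¬ n i = x i), f i :=
      (Finset.sum_filter_add_sum_filter_not _ (fun i => n i = x i) f).symm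
    rw [h1, h2, Finset.filter_filter, Finset.filter_filter]
  have hfA : ∀ i ∈ A, f i = ((x i : ℚ) - 1) / (x i : ℚ) := by
    intro i hi
    have := (Finset.mem_filter.1 hi).2.2
    simp only [hfdef, this]
  have hnB : ∀ i ∈ B, n i = 2 * x i := by
    intro i hi
    have h1 := (Finset.mem_filter.1 hi).2
    rcases hT i h1.1 with h2 | h2
    · exact absurd h2 h1.2
    · exact h2
  have hfB : ∀ i ∈ B, f i = ((x i : ℚ) - 1) / (2 * (x i : ℚ)) := by
    intro i hi
    simp only [hfdef, hnB i hi]
    push_cast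
    rfl
  have hAhalf : ∀ i ∈ A, (1:ℚ) / 2 ≤ f i := fun i hi => by rw [hfA i hi]; exact half_le _ (hx i)
  have hBq : ∀ i ∈ B, (1:ℚ) / 4 ≤ f i := fun i hi => by rw [hfB i hi]; exact quarter_le _ (hx i)
  have hfpos : ∀ i, 0 < f i := by
    intro i
    have h1 : (2:ℚ) ≤ x i := by exact_mod_cast hx i
    have h2 : 0 < n i := Nat.pos_of_dvd_of_pos (hnh i) hh
    have h3 : (0:ℚ) < n i := by exact_mod_cast h2
    exact div_pos (by linarith) h3
  have hUsnonneg : 0 ≤ ∑ i ∈ Us, f i := Finset.sum_nonneg (fun i _ => (hfpos i).le)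
  have hhq : (0:ℚ) < 1 / h := by positivity
  have hAB : (A.card : ℚ) / 2 + (B.card : ℚ) / 4 ≤ ∑ i ∈ A, f i + ∑ i ∈ B, f i := by
    have h1 : (A.card : ℚ) / 2 ≤ ∑ i ∈ A, f i := by
      have := Finset.card_nsmul_le_sum A f (1/2) hAhalf
      simp only [nsmul_eq_mul] at this
      linarith
    have h2 : (B.card : ℚ) / 4 ≤ ∑ i ∈ B, f i := by
      have := Finset.card_nsmul_le_sum B f (1/4) hBq
      simp only [nsmul_eq_mul] at this
      linarith
    linarith
  have hcard : 2 * A.card + B.card < 4 := by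
    have : (A.card : ℚ) / 2 + (B.card : ℚ) / 4 < 1 := by
      have := hsum
      rw [hsplit] at this
      linarith
    have h2 : (2 * A.card + B.card : ℚ) < 4 := by linarith
    exact_mod_cast h2
  have hmemA : ∀ i, i ∈ A → ¬ U i := fun i hi => (Finset.mem_filter.1 hi).2.1
  have hmemB : ∀ i, i ∈ B → ¬ U i := fun i hi => (Finset.mem_filter.1 hi).2.1
  have hnA : ∀ i ∈ A, n i = x i := fun i hi => (Finset.mem_filter.1 hi).2.2
  have hcover : ∀ i, i ∈ Us ∨ i ∈ A ∨ i ∈ B := by
    intro i
    by_cases h1 : U i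
    · left; exact Finset.mem_filter.2 ⟨Finset.mem_univ _, h1⟩
    · by_cases h2 : n i = x i
      · right; left; exact Finset.mem_filter.2 ⟨Finset.mem_univ _, h1, h2⟩
      · right; right; exact Finset.mem_filter.2 ⟨Finset.mem_univ _, h1, h2⟩
  have hdvdB : ∀ i ∈ B, 2 * x i ∣ h := fun i hi => by rw [← hnB i hi]; exact hnh i
  have hdvdA : ∀ i ∈ A, x i ∣ h := fun i hi => by rw [← hnA i hi]; exact hnh i
  -- is there a U-class?
  by_cases hUex : ∃ u, U u
  · obtain ⟨u, hu⟩ := hUex
    have hUs1 : Us = {u} := by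
      ext i
      simp only [hUs, Finset.mem_filter, Finset.mem_univ, true_and, Finset.mem_singleton]
      exact ⟨fun hi => hU1 i u hi hu, fun hi => hi ▸ hu⟩
    obtain ⟨k, r, hnk, hhk, hk1, hkP, hkcls⟩ := hU2 u hu
    have hP : 2 ≤ x u := hx u
    by_cases hr : r = 0
    · right; right; right; left
      refine ⟨u, hu, ?_⟩
      rw [hnk, hhk, hr]; ring
    have hr1 : 1 ≤ r := Nat.one_le_iff_ne_zero.2 hr
    have hfu : f u = ((x u : ℚ) - 1) / ((x u : ℚ) * (k : ℚ)) := by
      simp only [hfdef, hnk]; push_cast; rfl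
    have hsum' : ((x u : ℚ) - 1) / ((x u : ℚ) * (k : ℚ)) + (∑ i ∈ A, f i + ∑ i ∈ B, f i) =
        1 - 1 / (h : ℚ) := by
      rw [← hfu, ← hsum, hsplit, hUs1, Finset.sum_singleton]
    have hsumAB0 : ∀ i, i ∈ A ∨ i ∈ B ∨ i = u := by
      intro i
      rcases hcover i with h1 | h1 | h1
      · right; right; rw [hUs1] at h1; exact Finset.mem_singleton.1 h1
      · left; exact h1
      · right; left; exact h1
    -- case analysis on the sizes of A and B
    have hcases : (A.card = 0 ∧ B.card = 0) ∨ (A.card = 0 ∧ B.card = 1) ∨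
        (A.card = 0 ∧ B.card = 2) ∨ (A.card = 0 ∧ B.card = 3) ∨ (A.card = 1 ∧ B.card = 0) ∨
        (A.card = 1 ∧ B.card = 1) := by omega
    rcases hcases with ⟨hA0, hB0⟩ | ⟨hA0, hB1⟩ | ⟨hA0, hB2⟩ | ⟨hA0, hB3⟩ | ⟨hA1, hB0⟩ | ⟨hA1, hB1⟩
    · -- (0,0)
      exfalso
      rw [Finset.card_eq_zero] at hA0 hB0
      simp only [hA0, hB0, Finset.sum_empty, add_zero] at hsum'
      exact hr (numU_00 (x u) k r h hP hk1 hhk hsum')
    · -- (0,1)
      rw [Finset.card_eq_zero] at hA0
      obtain ⟨b, hb, hsb⟩ := sum_card_one f hB1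
      have hbB : b ∈ B := by rw [hb]; exact Finset.mem_singleton_self _
      rw [hA0, Finset.sum_empty, zero_add, hsb, hfB b hbB] at hsum'
      rcases numU_01 (x u) k r h (x b) hP hk1 hkP (hx b) (hdvdB b hbB) hhk hsum' with
        ⟨h1, h2, h3⟩ | ⟨h1, h2, h3, h4⟩
      · right; right; left
        exact ⟨b, hmemB b hbB, by rw [hnB b hbB, h3], hnB b hbB⟩
      · right; right; right; right; left
        exact ⟨h4, u, h1, by rw [hnk, h1, h2]⟩
    · -- (0,2)
      rw [Finset.card_eq_zero] at hA0
      obtain ⟨b1, b2, hb12, hb, hsb⟩ := sum_card_two f hB2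
      have hb1B : b1 ∈ B := by rw [hb]; simp
      have hb2B : b2 ∈ B := by rw [hb]; simp
      rw [hA0, Finset.sum_empty, zero_add, hsb, hfB b1 hb1B, hfB b2 hb2B] at hsum'
      rcases Nat.lt_or_ge k 2 with hk2 | hk2
      · exfalso
        have hk1' : k = 1 := by omega
        rw [hk1'] at hsum'
        exact numU_02_k1 (x u) h (x b1) (x b2) hP (hx b1) (hx b2) hh hsum'
      · obtain ⟨j, hjU, hjk⟩ := hkcls hk2
        have hjB : j ∈ B := by
          rcases hsumAB0 j with h1 | h1 | h1
          · rw [hA0] at h1; exact absurd h1 (Finset.notMem_empty _)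
          · exact h1
          · rw [h1] at hjU; exact absurd hu hjU
        -- wlog j = b1
        have key : ∀ c1 c2 : ι, c1 ≠ c2 → B = {c1, c2} → c1 = j →
            ((x u : ℚ) - 1) / ((x u : ℚ) * (k : ℚ)) +
              (((x c1 : ℚ) - 1) / (2 * (x c1 : ℚ)) + ((x c2 : ℚ) - 1) / (2 * (x c2 : ℚ))) =
              1 - 1 / (h : ℚ) → NumOutcome h x n U := by
          intro c1 c2 hc12 hBc hc1 e
          have hc1B : c1 ∈ B := by rw [hBc]; simp
          have hc2B : c2 ∈ B := by rw [hBc]; simp
          rw [hc1, hjk] at e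
          rcases numU_02 (x u) k r h (x c2) hP hk2 hkP hr1 (hx c2) hhk e with
            ⟨h1, h2⟩ | ⟨h1, h2, h3, h4, h5⟩
          · right; right; right; right; right; right; right
            refine ⟨u, hu, k, hk2, hnk, ?_, h2, ?_⟩
            · rw [hhk, h1]; ring
            · intro i
              rcases hsumAB0 i with hi | hi | hi
              · rw [hA0] at hi; exact absurd hi (Finset.notMem_empty _)
              · rw [hBc] at hi
                simp only [Finset.mem_insert, Finset.mem_singleton] at hi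
                rcases hi with hi | hi
                · right; left
                  rw [hi, hc1, hjk]
                · right; right
                  rw [hi]
                  exact numU_02_y2 (x u) k h (x c2) hP hk2 (hx c2) (by rw [hhk, h1]) e
              · left; rw [hi]; exact hu
          · right; right; right; right; right; right; left
            refine ⟨h5, ?_, ?_⟩
            · intro i
              rcases hsumAB0 i with hi | hi | hi
              · rw [hA0] at hi; exact absurd hi (Finset.notMem_empty _)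
              · rw [hBc] at hi
                simp only [Finset.mem_insert, Finset.mem_singleton] at hi
                rcases hi with hi | hi
                · left
                  rw [hi, hc1]
                  exact ⟨by rw [hjk, h3], by rw [hnB j hjB, hjk, h3]⟩
                · right; right
                  rw [hi]
                  exact ⟨h4, by rw [hnB c2 hc2B, h4]⟩
              · right; left
                rw [hi]
                exact ⟨h1, by rw [hnk, h1, h3]⟩
            · intro i i' hi hi'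
              have hone : ∀ i, x i = 2 → i = j := by
                intro i hi
                rcases hsumAB0 i with hi2 | hi2 | hi2
                · rw [hA0] at hi2; exact absurd hi2 (Finset.notMem_empty _)
                · rw [hBc] at hi2
                  simp only [Finset.mem_insert, Finset.mem_singleton] at hi2
                  rcases hi2 with hi2 | hi2
                  · rw [hi2, hc1]
                  · rw [hi2, h4] at hi; omega
                · rw [hi2, h1] at hi; omega
              rw [hone i hi, hone i' hi']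
        have hjb : j = b1 ∨ j = b2 := by
          rw [hb] at hjB
          simpa using hjB
        rcases hjb with hjb | hjb
        · exact key b1 b2 hb12 hb hjb.symm hsum'
        · refine key b2 b1 hb12.symm (by rw [hb, Finset.pair_comm]) hjb.symm ?_
          rw [← hsum']; ring
    · -- (0,3)
      exfalso
      rw [Finset.card_eq_zero] at hA0
      obtain ⟨b1, b2, b3, hb12, hb13, hb23, hb, hsb⟩ := sum_card_three f hB3
      have hb1B : b1 ∈ B := by rw [hb]; simp
      have hb2B : b2 ∈ B := by rw [hb]; simp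
      have hb3B : b3 ∈ B := by rw [hb]; simp
      rw [hA0, Finset.sum_empty, zero_add, hsb, hfB b1 hb1B, hfB b2 hb2B, hfB b3 hb3B] at hsum'
      rcases Nat.lt_or_ge k 2 with hk2 | hk2
      · have hk1' : k = 1 := by omega
        rw [hk1'] at hsum'
        exact numU_03_k1 (x u) h (x b1) (x b2) (x b3) hP (hx b1) (hx b2) (hx b3) hh hsum'
      · obtain ⟨j, hjU, hjk⟩ := hkcls hk2
        have hjB : j ∈ B := by
          rcases hsumAB0 j with h1 | h1 | h1
          · rw [hA0] at h1; exact absurd h1 (Finset.notMem_empty _)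
          · exact h1
          · rw [h1] at hjU; exact absurd hu hjU
        have hjb : j = b1 ∨ j = b2 ∨ j = b3 := by
          rw [hb] at hjB
          simpa using hjB
        rcases hjb with hjb | hjb | hjb
        · rw [← hjb, hjk] at hsum'
          exact numU_03 (x u) k h (x b2) (x b3) hP hk2 (hx b2) (hx b3) hh hsum'
        · rw [← hjb, hjk] at hsum'
          refine numU_03 (x u) k h (x b1) (x b3) hP hk2 (hx b1) (hx b3) hh ?_
          rw [← hsum']; ring
        · rw [← hjb, hjk] at hsum'
          refine numU_03 (x u) k h (x b1) (x b2) hP hk2 (hx b1) (hx b2) hh ?_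
          rw [← hsum']; ring
    · -- (1,0)
      exfalso
      rw [Finset.card_eq_zero] at hB0
      obtain ⟨a, ha, hsa⟩ := sum_card_one f hA1
      have haA : a ∈ A := by rw [ha]; exact Finset.mem_singleton_self _
      rw [hB0, Finset.sum_empty, add_zero, hsa, hfA a haA] at hsum'
      exact hr (numU_10 (x u) k r h (x a) hP hk1 hkP (hx a) hhk hsum')
    · -- (1,1)
      exfalso
      obtain ⟨a, ha, hsa⟩ := sum_card_one f hA1
      have haA : a ∈ A := by rw [ha]; exact Finset.mem_singleton_self _
      obtain ⟨b, hb, hsb⟩ := sum_card_one f hB1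
      have hbB : b ∈ B := by rw [hb]; exact Finset.mem_singleton_self _
      rw [hsa, hsb, hfA a haA, hfB b hbB] at hsum'
      rcases Nat.lt_or_ge k 2 with hk2 | hk2
      · have hk1' : k = 1 := by omega
        rw [hk1'] at hsum'
        exact numU_11_k1 (x u) h (x a) (x b) hP (hx a) (hx b) hh hsum'
      · obtain ⟨j, hjU, hjk⟩ := hkcls hk2
        rcases hsumAB0 j with h1 | h1 | h1
        · rw [ha] at h1
          have : j = a := Finset.mem_singleton.1 h1
          rw [← this, hjk] at hsum'
          exact numU_11_x (x u) k h (x b) hP hk2 hkP (hx b) hh hsum'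
        · rw [hb] at h1
          have : j = b := Finset.mem_singleton.1 h1
          rw [← this, hjk] at hsum'
          exact numU_11_y (x u) k h (x a) hP hk2 (hx a) hh hsum'
        · rw [h1] at hjU; exact absurd hu hjU
  · -- no U-class
    have hUs0 : Us = ∅ := by
      ext i
      simp only [hUs, Finset.mem_filter, Finset.mem_univ, true_and, Finset.notMem_empty,
        iff_false]
      exact fun hi => hUex ⟨i, hi⟩
    have hsum' : ∑ i ∈ A, f i + ∑ i ∈ B, f i = 1 - 1 / (h : ℚ) := by
      rw [← hsum, hsplit, hUs0, Finset.sum_empty, zero_add]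
    have hAB0 : ∀ i, i ∈ A ∨ i ∈ B := by
      intro i
      rcases hcover i with h1 | h1 | h1
      · rw [hUs0] at h1; exact absurd h1 (Finset.notMem_empty _)
      · left; exact h1
      · right; exact h1
    have hcases : (A.card = 0 ∧ B.card = 0) ∨ (A.card = 0 ∧ B.card = 1) ∨
        (A.card = 0 ∧ B.card = 2) ∨ (A.card = 0 ∧ B.card = 3) ∨ (A.card = 1 ∧ B.card = 0) ∨
        (A.card = 1 ∧ B.card = 1) := by omega
    rcases hcases with ⟨hA0, hB0⟩ | ⟨hA0, hB1⟩ | ⟨hA0, hB2⟩ | ⟨hA0, hB3⟩ | ⟨hA1, hB0⟩ | ⟨hA1, hB1⟩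
    · -- (0,0)
      left
      rw [Finset.card_eq_zero] at hA0 hB0
      simp only [hA0, hB0, Finset.sum_empty, add_zero] at hsum'
      exact num_00 h hh hsum'
    · -- (0,1)
      exfalso
      rw [Finset.card_eq_zero] at hA0
      obtain ⟨b, hb, hsb⟩ := sum_card_one f hB1
      have hbB : b ∈ B := by rw [hb]; exact Finset.mem_singleton_self _
      rw [hA0, Finset.sum_empty, zero_add, hsb, hfB b hbB] at hsum'
      exact num_01 (x b) h (hx b) hh (hdvdB b hbB) hsum'
    · -- (0,2)
      exfalso
      rw [Finset.card_eq_zero] at hA0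
      obtain ⟨b1, b2, hb12, hb, hsb⟩ := sum_card_two f hB2
      have hb1B : b1 ∈ B := by rw [hb]; simp
      have hb2B : b2 ∈ B := by rw [hb]; simp
      rw [hA0, Finset.sum_empty, zero_add, hsb, hfB b1 hb1B, hfB b2 hb2B] at hsum'
      exact num_02 (x b1) (x b2) h (hx b1) (hx b2) hh (hdvdB b1 hb1B) hsum'
    · -- (0,3)
      rw [Finset.card_eq_zero] at hA0
      obtain ⟨b1, b2, b3, hb12, hb13, hb23, hb, hsb⟩ := sum_card_three f hB3
      have key : ∀ c1 c2 c3 : ι, c1 ≠ c2 → c1 ≠ c3 → c2 ≠ c3 → B = {c1, c2, c3} → x c1 = 2 →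
          ((x c1 : ℚ) - 1) / (2 * (x c1 : ℚ)) + ((x c2 : ℚ) - 1) / (2 * (x c2 : ℚ)) +
            ((x c3 : ℚ) - 1) / (2 * (x c3 : ℚ)) = 1 - 1 / (h : ℚ) → NumOutcome h x n U := by
        intro c1 c2 c3 hc12 hc13 hc23 hBc hc1 e
        have hc1B : c1 ∈ B := by rw [hBc]; simp
        have hc2B : c2 ∈ B := by rw [hBc]; simp
        have hc3B : c3 ∈ B := by rw [hBc]; simp
        have hmem : ∀ i, i = c1 ∨ i = c2 ∨ i = c3 := by
          intro i
          rcases hAB0 i with hi | hi
          · rw [hA0] at hi; exact absurd hi (Finset.notMem_empty _)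
          · rw [hBc] at hi; simpa using hi
        rw [hc1] at e
        push_cast at e
        rcases num_03a (x c2) (x c3) h (hx c2) (hx c3) hh e with
          ⟨h1, h2⟩ | ⟨h1, h2⟩ | ⟨h1, h2, h3⟩ | ⟨h1, h2, h3⟩ | ⟨h1, h2, h3⟩ | ⟨h1, h2, h3⟩ |
          ⟨h1, h2, h3⟩
        · right; right; left
          exact ⟨c3, hmemB c3 hc3B, by rw [hnB c3 hc3B, h2], hnB c3 hc3B⟩
        · right; right; left
          exact ⟨c2, hmemB c2 hc2B, by rw [hnB c2 hc2B, h2], hnB c2 hc2B⟩
        · exfalso
          apply hc23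
          apply hf c2 c3 (by rw [h1, h2]) (by rw [h1]; norm_num)
          rw [h1, h3]; norm_num
        · right; right; right; right; right; left
          exact ⟨h3, c2, hmemB c2 hc2B, h1, by rw [hnB c2 hc2B, h1]⟩
        · right; right; right; right; right; left
          exact ⟨h3, c3, hmemB c3 hc3B, h2, by rw [hnB c3 hc3B, h2]⟩
        · right; right; right; right; right; right; left
          refine ⟨h3, ?_, ?_⟩
          · intro i
            rcases hmem i with hi | hi | hi
            · left; rw [hi]; exact ⟨hc1, by rw [hnB c1 hc1B, hc1]⟩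
            · right; left; rw [hi]; exact ⟨h1, by rw [hnB c2 hc2B, h1]⟩
            · right; right; rw [hi]; exact ⟨h2, by rw [hnB c3 hc3B, h2]⟩
          · have hone : ∀ i, x i = 2 → i = c1 := by
              intro i hi
              rcases hmem i with hi2 | hi2 | hi2
              · exact hi2
              · rw [hi2, h1] at hi; omega
              · rw [hi2, h2] at hi; omega
            intro i i' hi hi'
            rw [hone i hi, hone i' hi']
        · right; right; right; right; right; right; left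
          refine ⟨h3, ?_, ?_⟩
          · intro i
            rcases hmem i with hi | hi | hi
            · left; rw [hi]; exact ⟨hc1, by rw [hnB c1 hc1B, hc1]⟩
            · right; right; rw [hi]; exact ⟨h1, by rw [hnB c2 hc2B, h1]⟩
            · right; left; rw [hi]; exact ⟨h2, by rw [hnB c3 hc3B, h2]⟩
          · have hone : ∀ i, x i = 2 → i = c1 := by
              intro i hi
              rcases hmem i with hi2 | hi2 | hi2
              · exact hi2
              · rw [hi2, h1] at hi; omega
              · rw [hi2, h2] at hi; omega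
            intro i i' hi hi'
            rw [hone i hi, hone i' hi']
      have hb1B : b1 ∈ B := by rw [hb]; simp
      have hb2B : b2 ∈ B := by rw [hb]; simp
      have hb3B : b3 ∈ B := by rw [hb]; simp
      rw [hA0, Finset.sum_empty, zero_add, hsb, hfB b1 hb1B, hfB b2 hb2B, hfB b3 hb3B] at hsum'
      rcases num_03_min (x b1) (x b2) (x b3) h (hx b1) (hx b2) (hx b3) hh hsum' with h1 | h1 | h1
      · exact key b1 b2 b3 hb12 hb13 hb23 hb h1 hsum'
      · refine key b2 b1 b3 hb12.symm hb23 hb13 ?_ h1 ?_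
        · rw [hb]; ext i; simp only [Finset.mem_insert, Finset.mem_singleton]; tauto
        · rw [← hsum']; ring
      · refine key b3 b1 b2 hb13.symm hb23.symm hb12 ?_ h1 ?_
        · rw [hb]; ext i; simp only [Finset.mem_insert, Finset.mem_singleton]; tauto
        · rw [← hsum']; ring
    · -- (1,0)
      right; left
      rw [Finset.card_eq_zero] at hB0
      obtain ⟨a, ha, hsa⟩ := sum_card_one f hA1
      have haA : a ∈ A := by rw [ha]; exact Finset.mem_singleton_self _
      rw [hB0, Finset.sum_empty, add_zero, hsa, hfA a haA] at hsum'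
      exact ⟨a, hmemA a haA, num_10 (x a) h (hx a) hh hsum'⟩
    · -- (1,1)
      obtain ⟨a, ha, hsa⟩ := sum_card_one f hA1
      have haA : a ∈ A := by rw [ha]; exact Finset.mem_singleton_self _
      obtain ⟨b, hb, hsb⟩ := sum_card_one f hB1
      have hbB : b ∈ B := by rw [hb]; exact Finset.mem_singleton_self _
      rw [hsa, hsb, hfA a haA, hfB b hbB] at hsum'
      rcases num_11 (x a) (x b) h (hx a) (hx b) hh hsum' with ⟨h1, h2⟩ | ⟨h1, h2, h3⟩
      · right; right; left
        exact ⟨b, hmemB b hbB, by rw [hnB b hbB, h2], hnB b hbB⟩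
      · right; right; right; right; left
        exact ⟨h3, a, h1, by rw [hnA a haA, h1]⟩

end

end Cfsg.Agent.Lib.Helper48.Dickson
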