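import Mathlib
import Cfsg.Agent.Lib.Helper48.Dickson.Abstract4
import Cfsg.Agent.Lib.Helper48.Dickson.NumericMain

set_option autoImplicit false

/-! # The structural outcomes of the classification, for a group with a Dickson structure -/

namespace Cfsg.Agent.Lib.Helper48.Dickson

open Subgroup

namespace DStruct

variable {G : Type*} [Group G] {p : ℕ} (D : DStruct G p) (H : Subgroup G)

/-- the structural outcomes -/
def Outcome : Prop :=
  H = ⊥ ∨
  (∃ g, g ≠ 1 ∧ (Nat.card (D.comp g)).Coprime p ∧ H ≤ D.comp g) ∨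
  (∃ g, g ∈ H ∧ g ≠ 1 ∧ (Nat.card (D.comp g)).Coprime p ∧ H ≤ nrm (D.comp g) ∧
    Nat.card H = 2 * Nat.card (D.XH H g)) ∨
  (∃ g, g ≠ 1 ∧ IsPGroup p (D.comp g) ∧ H ≤ nrm (D.comp g)) ∨
  (Nat.card H = 12 ∧ ∃ g, g ∈ H ∧ g ≠ 1 ∧ Nat.card (D.XH H g) = 3 ∧ Nat.card (D.NH H g) = 3) ∨
  (Nat.card H = 24 ∧ ∃ g, g ∈ H ∧ g ≠ 1 ∧ (Nat.card (D.comp g)).Coprime p ∧
    Nat.card (D.XH H g) = 3 ∧ Nat.card (D.NH H g) = 6) ∨
  (Nat.card H = 60 ∧
    (∀ z, z ∈ H → z ≠ 1 → (Nat.card (D.XH H z) = 2 ∧ Nat.card (D.NH H z) = 4) ∨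
      (Nat.card (D.XH H z) = 3 ∧ Nat.card (D.NH H z) = 6) ∨
      (Nat.card (D.XH H z) = 5 ∧ Nat.card (D.NH H z) = 10)) ∧
    (∀ z z', z ∈ H → z ≠ 1 → z' ∈ H → z' ≠ 1 → Nat.card (D.XH H z) = 2 →
      Nat.card (D.XH H z') = 2 → D.Rel H z z')) ∨
  (∃ g, g ∈ H ∧ g ≠ 1 ∧ IsPGroup p (D.comp g) ∧ ∃ k, 2 ≤ k ∧
    Nat.card (D.NH H g) = Nat.card (D.XH H g) * k ∧
    Nat.card H = Nat.card (D.XH H g) * k * (1 + Nat.card (D.XH H g)) ∧
    (k = Nat.card (D.XH H g) - 1 ∨ 2 * k = Nat.card (D.XH H g) - 1) ∧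
    ∀ z, z ∈ H → z ≠ 1 → IsPGroup p (D.comp z) ∨ Nat.card (D.XH H z) = k ∨
      Nat.card (D.XH H z) * (Nat.card (D.XH H g) - 1) = k * (Nat.card (D.XH H g) + 1))

variable [Finite G] [Fact p.Prime]

theorem eq_of_rel {c c' : D.Cls H} (h : D.Rel H c.out.1 c'.out.1) : c = c' := by
  have : Quotient.mk (D.cls H) c.out = Quotient.mk (D.cls H) c'.out := Quotient.sound h
  rwa [Quotient.out_eq, Quotient.out_eq] at this

theorem rel_out (z : HS H) : D.Rel H (Quotient.mk (D.cls H) z).out.1 z.1 := by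
  have : Quotient.mk (D.cls H) (Quotient.mk (D.cls H) z).out = Quotient.mk (D.cls H) z :=
    Quotient.out_eq _
  exact Quotient.exact this

theorem eq_of_card_eq {K L : Subgroup G} (hle : K ≤ L) (h : Nat.card K = Nat.card L) : K = L := by
  apply le_antisymm hle
  intro x hx
  have h1 : Function.Injective (Subgroup.inclusion hle) := Subgroup.inclusion_injective hle
  have h2 : Function.Surjective (Subgroup.inclusion hle) := by
    have : Function.Bijective (Subgroup.inclusion hle) :=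
      (Nat.bijective_iff_injective_and_card _).2 ⟨h1, h⟩
    exact this.2
  obtain ⟨y, hy⟩ := h2 ⟨x, hx⟩
  have : y.1 = x := congrArg Subtype.val hy
  rw [← this]
  exact y.2

theorem outcome : D.Outcome H := by
  classical
  have hnum := numeric_classification (ι := D.Cls H) (Nat.card H) (D.xc H) (D.nc H)
    (fun c => IsPGroup p (D.comp c.out.1)) Nat.card_pos (D.two_le_xc H) (D.nc_dvd_card H)
    ?_ ?_ ?_ ?_ (D.class_equation H)
  · -- translate the outcomes
    rcases hnum with h1 | ⟨c, hcU, hc⟩ | ⟨c, hcU, hc1, hc2⟩ | ⟨c, hcU, hc⟩ | ⟨h12, c, hc1, hc2⟩ |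
      ⟨h24, c, hcU, hc1, hc2⟩ | ⟨h60, hall, huniq⟩ | ⟨c, hcU, k, hk2, hnk, hhk, hk, hcls⟩
    · left
      exact (Subgroup.card_eq_one).1 h1
    · right; left
      refine ⟨c.out.1, c.out.2.2, (D.dich _ c.out.2.2).resolve_left hcU, ?_⟩
      have : D.XH H c.out.1 = H := eq_of_card_eq inf_le_left hc
      exact fun y hy => ((D.mem_XH H).1 (this.symm ▸ hy)).2
    · right; right; left
      refine ⟨c.out.1, c.out.2.1, c.out.2.2, (D.dich _ c.out.2.2).resolve_left hcU, ?_, ?_⟩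
      · have : D.NH H c.out.1 = H := eq_of_card_eq inf_le_left hc1
        exact fun y hy => ((D.mem_NH H).1 (this.symm ▸ hy)).2
      · rw [← hc1, hc2]; rfl
    · right; right; right; left
      refine ⟨c.out.1, c.out.2.2, hcU, ?_⟩
      have : D.NH H c.out.1 = H := eq_of_card_eq inf_le_left hc
      exact fun y hy => ((D.mem_NH H).1 (this.symm ▸ hy)).2
    · right; right; right; right; left
      exact ⟨h12, c.out.1, c.out.2.1, c.out.2.2, hc1, hc2⟩
    · right; right; right; right; right; left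
      exact ⟨h24, c.out.1, c.out.2.1, c.out.2.2, (D.dich _ c.out.2.2).resolve_left hcU, hc1, hc2⟩
    · right; right; right; right; right; right; left
      refine ⟨h60, ?_, ?_⟩
      · intro z hz hz1
        have hx := D.xc_eq H (c := Quotient.mk (D.cls H) ⟨z, hz, hz1⟩) (z := ⟨z, hz, hz1⟩) rfl
        have hn := D.nc_eq H (c := Quotient.mk (D.cls H) ⟨z, hz, hz1⟩) (z := ⟨z, hz, hz1⟩) rfl
        rw [← hx, ← hn]
        exact hall _
      · intro z z' hz hz1 hz' hz1' h2 h2'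
        have hx := D.xc_eq H (c := Quotient.mk (D.cls H) ⟨z, hz, hz1⟩) (z := ⟨z, hz, hz1⟩) rfl
        have hx' := D.xc_eq H (c := Quotient.mk (D.cls H) ⟨z', hz', hz1'⟩)
          (z := ⟨z', hz', hz1'⟩) rfl
        have := huniq _ _ (hx.trans h2) (hx'.trans h2')
        exact Quotient.exact this
    · right; right; right; right; right; right; right
      refine ⟨c.out.1, c.out.2.1, c.out.2.2, hcU, k, hk2, hnk, hhk, hk, ?_⟩
      intro z hz hz1
      have hx := D.xc_eq H (c := Quotient.mk (D.cls H) ⟨z, hz, hz1⟩) (z := ⟨z, hz, hz1⟩) rfl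
      rcases hcls (Quotient.mk (D.cls H) ⟨z, hz, hz1⟩) with h | h | h
      · left
        exact D.isPGroup_of_rel H (Quotient.out (Quotient.mk (D.cls H) ⟨z, hz, hz1⟩)).2.2
          (D.rel_out H ⟨z, hz, hz1⟩) h
      · right; left; rw [← hx]; exact h
      · right; right; rw [← hx]; exact h
  · -- T-type: index at most two
    intro c hc
    exact D.card_NH_of_T H c.out.2.2 ((D.dich _ c.out.2.2).resolve_left hc)
  · -- one U-class
    intro c c' hc hc'
    exact D.eq_of_rel H (D.rel_of_U H c.out.2.2 c'.out.2.2 c.out.2.1 c'.out.2.1 hc hc')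
  · -- the U-class
    intro c hc
    obtain ⟨k, hk⟩ := D.xc_dvd_nc H c
    obtain ⟨r, hr⟩ := D.card_H_of_U H c.out.2.2 hc
    have hle := D.card_NH_le_of_U H c.out.2.2 c.out.2.1 hc
    have hxpos : 0 < D.xc H c := lt_of_lt_of_le (by norm_num) (D.two_le_xc H c)
    have hnpos := D.nc_pos H c
    refine ⟨k, r, hk, ?_, ?_, ?_, ?_⟩
    · rw [hr]
      change D.nc H c * (1 + r * D.xc H c) = _
      rw [hk]
    · rcases Nat.eq_zero_or_pos k with h0 | h0
      · rw [h0, mul_zero] at hk; omega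
      · exact h0
    · have h1 : D.xc H c * k ≤ D.xc H c * (D.xc H c - 1) := by
        rw [← hk]; exact hle
      exact Nat.le_of_mul_le_mul_left h1 hxpos
    · intro hk2
      obtain ⟨n1, hn1H, hn11, hn1p, hn1c⟩ := D.exists_T_of_U H c.out.2.2 hc hk hk2
      refine ⟨Quotient.mk (D.cls H) ⟨n1, hn1H, hn11⟩, ?_, ?_⟩
      · intro hU
        exact hn1p (D.isPGroup_of_rel H (Quotient.out (Quotient.mk (D.cls H) ⟨n1, hn1H, hn11⟩)).2.2
          (D.rel_out H ⟨n1, hn1H, hn11⟩) hU)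
      · rw [D.xc_eq H (z := ⟨n1, hn1H, hn11⟩) rfl, hn1c]
  · -- prime order classes
    intro c c' hcc hprime hsq
    apply D.eq_of_rel H
    exact D.rel_of_prime H hprime c.out.2.2 c'.out.2.2 c.out.2.1 rfl hcc.symm hsq

end DStruct

end Cfsg.Agent.Lib.Helper48.Dickson
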