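import Mathlib
import Cfsg.Agent.Lib.Helper48.Dickson.Abstract5
import Cfsg.Agent.Lib.Helper19.Recog
import Cfsg.Agent.Lib.Helper42.A5Recog

set_option autoImplicit false

/-! # Isomorphism types of the outcomes -/

namespace Cfsg.Agent.Lib.Helper48.Dickson

open Subgroup

namespace DStruct

variable {G : Type*} [Group G] {p : ℕ} (D : DStruct G p) (H : Subgroup G)

/-- the outcomes, with isomorphism types -/
def Outcome2 : Prop :=
  (∃ g, g ≠ 1 ∧ (Nat.card (D.comp g)).Coprime p ∧ ∃ k, k ∣ Nat.card (D.comp g) ∧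
    ((IsCyclic H ∧ Nat.card H = k) ∨ Nonempty (H ≃* DihedralGroup k))) ∨
  H = ⊥ ∨
  (∃ g, g ≠ 1 ∧ IsPGroup p (D.comp g) ∧ H ≤ nrm (D.comp g)) ∨
  Nonempty (H ≃* alternatingGroup (Fin 4)) ∨
  Nonempty (H ≃* Equiv.Perm (Fin 4)) ∨
  Nonempty (H ≃* alternatingGroup (Fin 5)) ∨
  (∃ Q : Subgroup G, Q ≤ H ∧ IsPGroup p Q ∧ ∃ P k, 1 < P ∧ Nat.card Q = P ∧
    Nat.card (H ⊓ nrm Q : Subgroup G) = P * k ∧ Nat.card H = (P + 1) * P * k ∧
    (k = P - 1 ∨ 2 * k = P - 1))

theorem XH_le (g : G) : D.XH H g ≤ H := inf_le_left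

theorem NH_le (g : G) : D.NH H g ≤ H := inf_le_left

theorem XH_le_comp (g : G) : D.XH H g ≤ D.comp g := inf_le_right

variable [Finite G]

/-- the normalizer in `H` of `XH g`, as a subgroup of `H` -/
theorem normalizer_subgroupOf {g : G} (hg : g ≠ 1) (hgH : g ∈ H) :
    Subgroup.normalizer (((D.XH H g).subgroupOf H : Subgroup H) : Set H) =
      (D.NH H g).subgroupOf H := by
  rw [← Subgroup.subgroupOf_normalizer_eq (D.XH_le H g), D.NH_eq H hg hgH]
  ext h
  simp only [Subgroup.mem_subgroupOf, Subgroup.mem_inf]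
  exact ⟨fun hh => ⟨h.2, hh⟩, fun hh => hh.2⟩

theorem card_subgroupOf_of_le {K : Subgroup G} (hK : K ≤ H) :
    Nat.card (K.subgroupOf H) = Nat.card K :=
  Nat.card_congr (Subgroup.subgroupOfEquivOfLe hK).toEquiv

/-- a subgroup of order two -/
theorem eq_of_card_two {K : Subgroup G} (hK : Nat.card K = 2) {w y : G} (hw : w ∈ K) (hw1 : w ≠ 1)
    (hy : y ∈ K) (hy1 : y ≠ 1) : y = w := by
  obtain ⟨y0, _, hy0⟩ := (Nat.card_eq_two_iff' (1 : K)).1 hK
  have h1 := hy0 ⟨w, hw⟩ (fun h => hw1 (congrArg Subtype.val h))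
  have h2 := hy0 ⟨y, hy⟩ (fun h => hy1 (congrArg Subtype.val h))
  exact congrArg Subtype.val (h2.trans h1.symm)

variable [Fact p.Prime]

theorem outcome2 : D.Outcome2 H := by
  classical
  rcases D.outcome H with h1 | ⟨g, hg, hT, hle⟩ | ⟨g, hgH, hg, hT, hle, hcard⟩ | ⟨g, hg, hU, hle⟩ |
    ⟨h12, g, hgH, hg, hx, hn⟩ | ⟨h24, g, hgH, hg, hT, hx, hn⟩ | ⟨h60, hall, hrel⟩ |
    ⟨g, hgH, hg, hU, k, hk2, hnk, hhk, hk, -⟩
  · right; left; exact h1
  · -- cyclic
    left
    refine ⟨g, hg, hT, Nat.card H, Subgroup.card_dvd_of_le hle, Or.inl ⟨?_, rfl⟩⟩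
    have := D.t_cyc g hg hT
    exact Subgroup.isCyclic_of_le hle
  · -- dihedral
    left
    refine ⟨g, hg, hT, Nat.card (D.XH H g), Subgroup.card_dvd_of_le inf_le_right, Or.inr ?_⟩
    have hcyc : IsCyclic (D.comp g) := D.t_cyc g hg hT
    have hcycX : IsCyclic (D.XH H g) := Subgroup.isCyclic_of_le (D.XH_le_comp H g)
    have hcycY : IsCyclic ((D.XH H g).subgroupOf H) :=
      isCyclic_of_injective (Subgroup.subgroupOfEquivOfLe (D.XH_le H g)).toMonoidHom
        (Subgroup.subgroupOfEquivOfLe (D.XH_le H g)).injective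
    have hcardY : Nat.card ((D.XH H g).subgroupOf H) = Nat.card (D.XH H g) :=
      card_subgroupOf_of_le H (D.XH_le H g)
    have hidx : ((D.XH H g).subgroupOf H).index = 2 := by
      have h1 := Subgroup.card_mul_index ((D.XH H g).subgroupOf H)
      rw [hcardY, hcard] at h1
      have hpos : 0 < Nat.card (D.XH H g) := Nat.card_pos
      have : Nat.card (D.XH H g) * ((D.XH H g).subgroupOf H).index = Nat.card (D.XH H g) * 2 := by
        rw [h1]; ring
      exact Nat.eq_of_mul_eq_mul_left hpos this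
    have hinv : ∀ h : H, h ∉ (D.XH H g).subgroupOf H → h ^ 2 = 1 := by
      intro h hh
      rw [Subgroup.mem_subgroupOf] at hh
      have hC : h.1 ∉ D.comp g := fun hc => hh ((D.mem_XH H).2 ⟨h.2, hc⟩)
      have := (D.t_inv g hg hT h.1 (hle h.2) hC).1
      exact Subtype.ext (by simpa using this)
    have := Cfsg.Agent.Lib.Helper19.Recog.dihedral_of_index_two _ hidx hinv
    rwa [hcardY] at this
  · right; right; left
    exact ⟨g, hg, hU, hle⟩
  · -- A4
    right; right; right; left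
    have hXN : D.XH H g = D.NH H g := eq_of_card_eq (D.XH_le_NH H g) (by rw [hx, hn])
    apply Cfsg.Agent.Lib.Helper19.Recog.a4_of_card h12 ((D.XH H g).subgroupOf H)
    · rw [card_subgroupOf_of_le H (D.XH_le H g), hx]
    · rw [D.normalizer_subgroupOf H hg hgH, hXN]
  · -- S4
    right; right; right; right; left
    apply Cfsg.Agent.Lib.Helper19.Recog.s4_of_card h24 ((D.XH H g).subgroupOf H)
    · rw [card_subgroupOf_of_le H (D.XH_le H g), hx]
    · rw [D.normalizer_subgroupOf H hg hgH, card_subgroupOf_of_le H (D.NH_le H g), hn]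
    · rw [D.normalizer_subgroupOf H hg hgH]
      have hne : ¬ D.NH H g ≤ D.XH H g := by
        intro hle
        have := le_antisymm hle (D.XH_le_NH H g)
        rw [this] at hn
        omega
      obtain ⟨n0, hn0, hn0'⟩ := SetLike.not_le_iff_exists.1 hne
      have hn0H := ((D.mem_NH H).1 hn0).1
      have hn0N := ((D.mem_NH H).1 hn0).2
      have hn0C : n0 ∉ D.comp g := fun h => hn0' ((D.mem_XH H).2 ⟨hn0H, h⟩)
      refine ⟨⟨n0, hn0H⟩, by rw [Subgroup.mem_subgroupOf]; exact hn0, ⟨g, hgH⟩,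
        by rw [Subgroup.mem_subgroupOf]; exact D.self_mem_XH H hgH, ?_⟩
      intro h
      have h1 : n0 * g * n0⁻¹ = g := by simpa using congrArg Subtype.val h
      have h2 := (D.t_inv g hg hT n0 hn0N hn0C).2 g (D.mem_comp g)
      rw [h1] at h2
      -- g = g⁻¹ so g ^ 2 = 1, but the order of g divides 3
      have h3 : g ^ 2 = 1 := by
        rw [pow_two]
        nth_rewrite 1 [h2]
        simp
      have h4 : g ^ 3 = 1 := by
        have := pow_card_eq_one' (G := D.XH H g) (x := ⟨g, D.self_mem_XH H hgH⟩)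
        rw [hx] at this
        simpa using congrArg Subtype.val this
      apply hg
      calc g = g ^ 3 * (g ^ 2)⁻¹ := by group
        _ = 1 := by rw [h3, h4]; simp
  · -- A5
    right; right; right; right; right; left
    have hcard2 : ∀ z : H, orderOf z = 2 → Nat.card (D.XH H z.1) = 2 := by
      intro z hz
      have hz1 : z.1 ≠ 1 := by
        intro h
        have : z = 1 := Subtype.ext h
        rw [this, orderOf_one] at hz
        omega
      have hdvd : orderOf z.1 ∣ Nat.card (D.XH H z.1) :=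
        Subgroup.orderOf_dvd_natCard _ (D.self_mem_XH H z.2)
      have ho : orderOf z.1 = 2 := by rw [← hz]; exact (Subgroup.orderOf_coe z)
      rw [ho] at hdvd
      rcases hall z.1 z.2 hz1 with ⟨h, _⟩ | ⟨h, _⟩ | ⟨h, _⟩
      · exact h
      · rw [h] at hdvd; omega
      · rw [h] at hdvd; omega
    apply Cfsg.Agent.Lib.Helper42.A5Recog.a5_of_card h60
    · intro z hz4
      by_cases hz1 : z = 1
      · rw [hz1]; simp
      have hz1' : z.1 ≠ 1 := fun h => hz1 (Subtype.ext h)
      have hdvd : orderOf z.1 ∣ Nat.card (D.XH H z.1) :=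
        Subgroup.orderOf_dvd_natCard _ (D.self_mem_XH H z.2)
      have hdvd4 : orderOf z.1 ∣ 4 := by
        apply orderOf_dvd_of_pow_eq_one
        simpa using congrArg Subtype.val hz4
      have hone : orderOf z.1 ≠ 1 := by
        rw [Ne, orderOf_eq_one_iff]; exact hz1'
      have hle4 : orderOf z.1 ≤ 4 := Nat.le_of_dvd (by norm_num) hdvd4
      rcases hall z.1 z.2 hz1' with ⟨h, _⟩ | ⟨h, _⟩ | ⟨h, _⟩
      · rw [h] at hdvd
        apply Subtype.ext
        have : z.1 ^ 2 = 1 := orderOf_dvd_iff_pow_eq_one.1 hdvd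
        simpa using this
      · exfalso
        rw [h] at hdvd
        have h3 := Nat.le_of_dvd (by norm_num) hdvd
        interval_cases (orderOf z.1) <;> omega
      · exfalso
        rw [h] at hdvd
        interval_cases (orderOf z.1) <;> omega
    · intro z w hz hw
      have hz1 : z.1 ≠ 1 := by
        intro h
        have : z = 1 := Subtype.ext h
        rw [this, orderOf_one] at hz
        omega
      have hw1 : w.1 ≠ 1 := by
        intro h
        have : w = 1 := Subtype.ext h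
        rw [this, orderOf_one] at hw
        omega
      obtain ⟨h, hh, hc⟩ := hrel z.1 w.1 z.2 hz1 w.2 hw1 (hcard2 z hz) (hcard2 w hw)
      rw [isConj_iff]
      refine ⟨⟨h, hh⟩, Subtype.ext ?_⟩
      have h1 : h * z.1 * h⁻¹ ∈ D.XH H w.1 := by
        refine (D.mem_XH H).2 ⟨H.mul_mem (H.mul_mem hh z.2) (H.inv_mem hh), ?_⟩
        rw [← hc]; exact D.mem_comp _
      exact eq_of_card_two (hcard2 w hw) (D.self_mem_XH H w.2) hw1 h1 (conj_ne_one hz1)
    · intro z hz
      have hz1 : z.1 ≠ 1 := by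
        intro h
        have : z = 1 := Subtype.ext h
        rw [this, orderOf_one] at hz
        omega
      have hn4 : Nat.card (D.NH H z.1) = 4 := by
        rcases hall z.1 z.2 hz1 with ⟨_, h⟩ | ⟨h, _⟩ | ⟨h, _⟩
        · exact h
        · rw [hcard2 z hz] at h; omega
        · rw [hcard2 z hz] at h; omega
      rw [← hn4]
      apply Nat.card_congr
      refine ⟨fun h => ⟨h.1.1, (D.mem_NH H).2 ⟨h.1.2, ?_⟩⟩,
        fun y => ⟨⟨y.1, ((D.mem_NH H).1 y.2).1⟩, ?_⟩, fun h => rfl, fun y => rfl⟩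
      · rw [D.mem_nrm_comp_iff hz1]
        have h1 := Subgroup.mem_centralizer_singleton_iff.1 h.2
        have h2 : h.1.1 * z.1 = z.1 * h.1.1 := by
          have := congrArg Subtype.val h1
          simpa using this
        have : h.1.1 * z.1 * h.1.1⁻¹ = z.1 := by rw [h2]; group
        rw [this]
      · rw [Subgroup.mem_centralizer_singleton_iff]
        apply Subtype.ext
        have hyH := ((D.mem_NH H).1 y.2).1
        have hyN := ((D.mem_NH H).1 y.2).2
        have h1 : y.1 * z.1 * y.1⁻¹ ∈ D.XH H z.1 :=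
          (D.mem_XH H).2 ⟨H.mul_mem (H.mul_mem hyH z.2) (H.inv_mem hyH),
            (mem_nrm_iff.1 hyN z.1).1 (D.mem_comp _)⟩
        have h2 : y.1 * z.1 * y.1⁻¹ = z.1 :=
          eq_of_card_two (hcard2 z hz) (D.self_mem_XH H z.2) hz1 h1 (conj_ne_one hz1)
        simp only [Subgroup.coe_mul]
        calc y.1 * z.1 = (y.1 * z.1 * y.1⁻¹) * y.1 := by group
          _ = z.1 * y.1 := by rw [h2]
  · -- 2-transitive
    right; right; right; right; right; right
    refine ⟨D.XH H g, inf_le_left, hU.to_le inf_le_right, Nat.card (D.XH H g), k, ?_, rfl, ?_, ?_, hk⟩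
    · have : Nontrivial (D.XH H g) :=
        ⟨⟨⟨g, D.self_mem_XH H hgH⟩, 1, fun h => hg (by simpa using congrArg Subtype.val h)⟩⟩
      exact Finite.one_lt_card
    · rw [← D.NH_eq H hg hgH, hnk]
    · rw [hhk]; ring

end DStruct

end Cfsg.Agent.Lib.Helper48.Dickson
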