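import Mathlib
import Cfsg.Agent.Lib.Helper48.PSL2Basic
import Cfsg.Agent.Lib.Helper48.SL2Count
import Cfsg.Agent.Lib.Helper48.Dickson.Abstract1

set_option autoImplicit false

/-! # The components of `PSL(2,F)`: images of centralizers in `SL(2,F)` -/

namespace Cfsg.Agent.Lib.Helper48.Dickson

open Matrix

section mat

variable {F : Type*} [Field F]

/-- the centralizer of a non-scalar `2 × 2` matrix is spanned by `1` and the matrix -/
theorem exists_eq_add_of_comm (A B : Matrix (Fin 2) (Fin 2) F) (hA : ¬ IsScalar A)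
    (h : B * A = A * B) : ∃ a b : F, B = a • (1 : Matrix (Fin 2) (Fin 2) F) + b • A := by
  have h00 := congrFun (congrFun h 0) 0
  have h01 := congrFun (congrFun h 0) 1
  have h10 := congrFun (congrFun h 1) 0
  have h11 := congrFun (congrFun h 1) 1
  simp only [Matrix.mul_apply, Fin.sum_univ_two] at h00 h01 h10 h11
  by_cases hc : A 1 0 = 0
  · by_cases hb : A 0 1 = 0
    · have had : A 0 0 - A 1 1 ≠ 0 := fun h => hA ⟨hb, hc, sub_eq_zero.1 h⟩
      have hB01 : B 0 1 = 0 := by
        have : B 0 1 * (A 0 0 - A 1 1) = 0 := by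
          linear_combination -h01 + (B 0 0 - B 1 1) * hb
        rcases mul_eq_zero.1 this with h | h
        · exact h
        · exact absurd h had
      have hB10 : B 1 0 = 0 := by
        have : B 1 0 * (A 0 0 - A 1 1) = 0 := by
          linear_combination h10 + (B 0 0 - B 1 1) * hc
        rcases mul_eq_zero.1 this with h | h
        · exact h
        · exact absurd h had
      refine ⟨B 0 0 - (B 0 0 - B 1 1) / (A 0 0 - A 1 1) * A 0 0,
        (B 0 0 - B 1 1) / (A 0 0 - A 1 1), ?_⟩
      ext i j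
      fin_cases i <;> fin_cases j <;> simp [hb, hc, hB01, hB10]
      field_simp
      ring
    · refine ⟨B 0 0 - B 0 1 / A 0 1 * A 0 0, B 0 1 / A 0 1, ?_⟩
      have hB10 : B 1 0 = 0 := by
        have : A 0 1 * B 1 0 = 0 := by linear_combination -h00 + B 0 1 * hc
        rcases mul_eq_zero.1 this with h | h
        · exact absurd h hb
        · exact h
      ext i j
      fin_cases i <;> fin_cases j <;> simp [hc, hB10]
      · field_simp
      · field_simp
        linear_combination -h01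
  · refine ⟨B 0 0 - B 1 0 / A 1 0 * A 0 0, B 1 0 / A 1 0, ?_⟩
    ext i j
    fin_cases i <;> fin_cases j <;> simp
    · field_simp
      linear_combination h00
    · field_simp
    · field_simp
      linear_combination h10

/-- two matrices commuting with a non-scalar matrix commute -/
theorem comm_of_comm_nonscalar (A B B' : Matrix (Fin 2) (Fin 2) F) (hA : ¬ IsScalar A)
    (h : B * A = A * B) (h' : B' * A = A * B') : B * B' = B' * B := by
  obtain ⟨a, b, rfl⟩ := exists_eq_add_of_comm A B hA h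
  obtain ⟨a', b', rfl⟩ := exists_eq_add_of_comm A B' hA h'
  simp only [add_mul, mul_add, smul_mul_assoc, mul_smul_comm, one_mul, mul_one, smul_add,
    smul_smul]
  rw [mul_comm a' a, mul_comm b' b, mul_comm a' b, mul_comm b' a]
  abel

/-- if `A'` is non-scalar and commutes with the non-scalar `A`, they have the same centralizer -/
theorem comm_iff_of_comm_nonscalar (A A' B : Matrix (Fin 2) (Fin 2) F) (hA : ¬ IsScalar A)
    (hA' : ¬ IsScalar A') (h : A' * A = A * A') : B * A' = A' * B ↔ B * A = A * B := by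
  obtain ⟨a, b, rfl⟩ := exists_eq_add_of_comm A A' hA h
  have hb : b ≠ 0 := by
    intro hb
    apply hA'
    rw [hb, zero_smul, add_zero, isScalar_iff]
    simp
  simp only [add_mul, mul_add, smul_mul_assoc, mul_smul_comm, one_mul, mul_one]
  constructor
  · intro h1
    have h2 : b • (B * A) = b • (A * B) := add_left_cancel h1
    have := congrArg (fun M => b⁻¹ • M) h2
    simpa [smul_smul, inv_mul_cancel₀ hb] using this
  · intro h1
    rw [h1]

end mat

section sl2

variable {F : Type*} [Field F]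

local notation "SL2" => Matrix.SpecialLinearGroup (Fin 2) F
local notation "PSL2" => Matrix.ProjectiveSpecialLinearGroup (Fin 2) F

/-- the quotient map -/
abbrev mk2 : SL2 →* PSL2 := QuotientGroup.mk' _

theorem mk2_surjective : Function.Surjective (mk2 (F := F)) := QuotientGroup.mk'_surjective _

theorem mem_center_iff_isScalar (A : SL2) :
    A ∈ Subgroup.center SL2 ↔ IsScalar (A : Matrix (Fin 2) (Fin 2) F) := by
  rw [sl2_mem_center_iff, isScalar_iff]
  constructor
  · rintro ⟨r, hr⟩
    rw [hr]; simp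
  · intro h; exact ⟨_, h⟩

theorem mk2_eq_one_iff (A : SL2) : mk2 A = 1 ↔ A ∈ Subgroup.center SL2 :=
  QuotientGroup.eq_one_iff A

theorem mk2_eq_iff (A B : SL2) : mk2 A = mk2 B ↔ ∃ z ∈ Subgroup.center SL2, B = A * z := by
  constructor
  · intro h
    refine ⟨A⁻¹ * B, QuotientGroup.eq.1 h, by group⟩
  · rintro ⟨z, hz, rfl⟩
    rw [map_mul, (mk2_eq_one_iff z).2 hz, mul_one]

/-- commuting in `SL2`, in terms of matrices -/
theorem sl2_comm_iff (A B : SL2) : B * A = A * B ↔
    (B : Matrix (Fin 2) (Fin 2) F) * (A : Matrix (Fin 2) (Fin 2) F) =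
      (A : Matrix (Fin 2) (Fin 2) F) * (B : Matrix (Fin 2) (Fin 2) F) := by
  constructor
  · intro h
    have := congrArg (fun M : SL2 => (M : Matrix (Fin 2) (Fin 2) F)) h
    simpa using this
  · intro h
    apply Subtype.ext
    simpa using h

/-- elements commuting with a noncentral element commute -/
theorem sl2_comm_of_comm (A B B' : SL2) (hA : A ∉ Subgroup.center SL2) (h : B * A = A * B)
    (h' : B' * A = A * B') : B * B' = B' * B := by
  rw [mem_center_iff_isScalar] at hA
  rw [sl2_comm_iff] at h h' ⊢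
  exact (comm_of_comm_nonscalar _ _ _ hA h h')

/-- noncentral commuting elements have the same centralizer -/
theorem sl2_comm_iff_of_comm (A A' B : SL2) (hA : A ∉ Subgroup.center SL2)
    (hA' : A' ∉ Subgroup.center SL2) (h : A' * A = A * A') : B * A' = A' * B ↔ B * A = A * B := by
  rw [mem_center_iff_isScalar] at hA hA'
  rw [sl2_comm_iff] at h
  rw [sl2_comm_iff, sl2_comm_iff]
  exact comm_iff_of_comm_nonscalar _ _ _ hA hA' h

/-- the image in `PSL2` of the centralizer of `A` -/
def compS (A : SL2) : Subgroup PSL2 := (Subgroup.centralizer ({A} : Set SL2)).map mk2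

theorem mem_compS_iff (A B : SL2) : mk2 B ∈ compS A ↔ B * A = A * B := by
  unfold compS
  rw [Subgroup.mem_map]
  constructor
  · rintro ⟨B', hB', hBB'⟩
    rw [Subgroup.mem_centralizer_singleton_iff] at hB'
    obtain ⟨z, hz, rfl⟩ := (mk2_eq_iff B' B).1 hBB'
    rw [Subgroup.mem_center_iff] at hz
    rw [mul_assoc B' z A, ← hz A, ← mul_assoc, hB', mul_assoc]
  · intro h
    exact ⟨B, Subgroup.mem_centralizer_singleton_iff.2 h, rfl⟩

theorem compS_congr (A A' : SL2) (h : mk2 A = mk2 A') : compS A = compS A' := by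
  obtain ⟨z, hz, rfl⟩ := (mk2_eq_iff A A').1 h
  rw [Subgroup.mem_center_iff] at hz
  ext y
  obtain ⟨B, rfl⟩ := mk2_surjective y
  rw [mem_compS_iff, mem_compS_iff]
  constructor
  · intro h1
    rw [← mul_assoc, h1, mul_assoc, hz B, ← mul_assoc]
  · intro h1
    have h2 : B * A * z = A * B * z := by
      rw [mul_assoc B A z, h1, mul_assoc A z B, ← hz B, ← mul_assoc]
    exact mul_right_cancel h2

/-- the component of `g` -/
noncomputable def comp2 (g : PSL2) : Subgroup PSL2 := compS (Quotient.out g : SL2)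

theorem mk2_out (g : PSL2) : mk2 (Quotient.out g : SL2) = g := QuotientGroup.out_eq' g

theorem comp2_mk (A : SL2) : comp2 (mk2 A) = compS A :=
  compS_congr _ _ (mk2_out _)

theorem mem_comp2_iff (A B : SL2) : mk2 B ∈ comp2 (mk2 A) ↔ B * A = A * B := by
  rw [comp2_mk, mem_compS_iff]

theorem mem_comp2_self (g : PSL2) : g ∈ comp2 g := by
  obtain ⟨A, rfl⟩ := mk2_surjective g
  rw [mem_comp2_iff]

theorem comp2_comm (g : PSL2) (hg : g ≠ 1) (a : PSL2) (ha : a ∈ comp2 g) (b : PSL2)
    (hb : b ∈ comp2 g) : a * b = b * a := by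
  obtain ⟨A, rfl⟩ := mk2_surjective g
  obtain ⟨Ba, rfl⟩ := mk2_surjective a
  obtain ⟨Bb, rfl⟩ := mk2_surjective b
  rw [mem_comp2_iff] at ha hb
  have hA : A ∉ Subgroup.center SL2 := fun h => hg ((mk2_eq_one_iff A).2 h)
  rw [← map_mul, ← map_mul, sl2_comm_of_comm A Ba Bb hA ha hb]

theorem comp2_eq (g : PSL2) (hg : g ≠ 1) (g' : PSL2) (hg' : g' ∈ comp2 g) (hg'1 : g' ≠ 1) :
    comp2 g' = comp2 g := by
  obtain ⟨A, rfl⟩ := mk2_surjective g
  obtain ⟨A', rfl⟩ := mk2_surjective g'
  rw [mem_comp2_iff] at hg'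
  have hA : A ∉ Subgroup.center SL2 := fun h => hg ((mk2_eq_one_iff A).2 h)
  have hA' : A' ∉ Subgroup.center SL2 := fun h => hg'1 ((mk2_eq_one_iff A').2 h)
  ext y
  obtain ⟨B, rfl⟩ := mk2_surjective y
  rw [mem_comp2_iff, mem_comp2_iff]
  exact sl2_comm_iff_of_comm A A' B hA hA' hg'

theorem comp2_conj (x g y : PSL2) : y ∈ comp2 (x * g * x⁻¹) ↔ x⁻¹ * y * x ∈ comp2 g := by
  obtain ⟨A, rfl⟩ := mk2_surjective g
  obtain ⟨X, rfl⟩ := mk2_surjective x
  obtain ⟨Y, rfl⟩ := mk2_surjective y
  rw [← map_inv, ← map_mul, ← map_mul, ← map_mul, ← map_mul, mem_comp2_iff, mem_comp2_iff]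
  constructor
  · intro h
    have : X⁻¹ * Y * X * A = X⁻¹ * (Y * (X * A * X⁻¹)) * X := by group
    rw [this, h]; group
  · intro h
    have : Y * (X * A * X⁻¹) = X * (X⁻¹ * Y * X * A) * X⁻¹ := by group
    rw [this, h]; group

/-- membership in the normalizer of a component -/
theorem mem_nrm_comp2_iff (A Y : SL2) (hA : A ∉ Subgroup.center SL2) :
    mk2 Y ∈ nrm (comp2 (mk2 A)) ↔ (Y * A * Y⁻¹) * A = A * (Y * A * Y⁻¹) := by
  constructor
  · intro h
    have h1 := (mem_nrm_iff.1 h (mk2 A)).1 (mem_comp2_self _)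
    rw [← map_inv, ← map_mul, ← map_mul, mem_comp2_iff] at h1
    exact h1
  · intro h
    have hA' : Y * A * Y⁻¹ ∉ Subgroup.center SL2 := by
      intro hc
      apply hA
      have : A = Y⁻¹ * (Y * A * Y⁻¹) * Y := by group
      rw [this]
      rw [Subgroup.mem_center_iff] at hc ⊢
      intro g
      have h1 := hc (Y * g * Y⁻¹)
      have e1 : g * (Y⁻¹ * (Y * A * Y⁻¹) * Y) = Y⁻¹ * (Y * g * Y⁻¹ * (Y * A * Y⁻¹)) * Y := by group
      have e2 : Y⁻¹ * (Y * A * Y⁻¹) * Y * g = Y⁻¹ * (Y * A * Y⁻¹ * (Y * g * Y⁻¹)) * Y := by group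
      rw [e1, e2, h1]
    rw [mem_nrm_iff]
    intro y
    obtain ⟨B, rfl⟩ := mk2_surjective y
    rw [← map_inv, ← map_mul, ← map_mul, mem_comp2_iff, mem_comp2_iff]
    rw [← sl2_comm_iff_of_comm A (Y * A * Y⁻¹) (Y * B * Y⁻¹) hA hA' h]
    constructor
    · intro h1
      have : Y * B * Y⁻¹ * (Y * A * Y⁻¹) = Y * (B * A) * Y⁻¹ := by group
      rw [this, h1]; group
    · intro h1
      have : B * A = Y⁻¹ * (Y * B * Y⁻¹ * (Y * A * Y⁻¹)) * Y := by group
      rw [this, h1]; group

end sl2

end Cfsg.Agent.Lib.Helper48.Dickson
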