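import Mathlib
import Cfsg.Agent.Lib.Helper48.Dickson.Concrete1

set_option autoImplicit false

/-! # Tori: the `T`-type fields, from the facts about centralizers in `SL(2,F)` -/

namespace Cfsg.Agent.Lib.Helper48.Dickson

open Matrix

section

variable {F : Type*} [Field F]

local notation "SL2" => Matrix.SpecialLinearGroup (Fin 2) F
local notation "PSL2" => Matrix.ProjectiveSpecialLinearGroup (Fin 2) F

/-- the facts about centralizers of semisimple elements (Package T) -/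
structure TPack (F : Type*) [Field F] (p : ℕ) : Prop where
  cyc : ∀ A : Matrix.SpecialLinearGroup (Fin 2) F,
    (Matrix.trace (A : Matrix (Fin 2) (Fin 2) F)) ^ 2 ≠ 4 →
    IsCyclic (Subgroup.centralizer ({A} : Set (Matrix.SpecialLinearGroup (Fin 2) F)))
  coprime : ∀ A : Matrix.SpecialLinearGroup (Fin 2) F,
    (Matrix.trace (A : Matrix (Fin 2) (Fin 2) F)) ^ 2 ≠ 4 →
    (Nat.card (Subgroup.centralizer ({A} : Set (Matrix.SpecialLinearGroup (Fin 2) F)))).Coprime p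
  nrm : ∀ A : Matrix.SpecialLinearGroup (Fin 2) F,
    (Matrix.trace (A : Matrix (Fin 2) (Fin 2) F)) ^ 2 ≠ 4 →
    ∀ Y Y' : Matrix.SpecialLinearGroup (Fin 2) F,
    Y * A * Y⁻¹ ∈ Subgroup.centralizer ({A} : Set (Matrix.SpecialLinearGroup (Fin 2) F)) →
    Y ∉ Subgroup.centralizer ({A} : Set (Matrix.SpecialLinearGroup (Fin 2) F)) →
    Y' * A * Y'⁻¹ ∈ Subgroup.centralizer ({A} : Set (Matrix.SpecialLinearGroup (Fin 2) F)) →
    Y' ∉ Subgroup.centralizer ({A} : Set (Matrix.SpecialLinearGroup (Fin 2) F)) →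
    (Y ^ 2 ∈ Subgroup.center (Matrix.SpecialLinearGroup (Fin 2) F) ∧
      (∀ B ∈ Subgroup.centralizer ({A} : Set (Matrix.SpecialLinearGroup (Fin 2) F)),
        Y * B * Y⁻¹ = B⁻¹) ∧
      Y * Y' ∈ Subgroup.centralizer ({A} : Set (Matrix.SpecialLinearGroup (Fin 2) F)))

variable {p : ℕ} (hT : TPack F p)

include hT

theorem comp2_cyc [Finite F] (A : SL2)
    (hA : (Matrix.trace (A : Matrix (Fin 2) (Fin 2) F)) ^ 2 ≠ 4) : IsCyclic (comp2 (mk2 A)) := by
  rw [comp2_mk]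
  have := hT.cyc A hA
  unfold compS
  exact isCyclic_of_surjective ((mk2 (F := F)).subgroupMap (Subgroup.centralizer ({A} : Set SL2)))
    ((mk2 (F := F)).subgroupMap_surjective _)

theorem comp2_coprime [Finite F] (A : SL2)
    (hA : (Matrix.trace (A : Matrix (Fin 2) (Fin 2) F)) ^ 2 ≠ 4) :
    (Nat.card (comp2 (mk2 A))).Coprime p := by
  rw [comp2_mk]
  have h1 := hT.coprime A hA
  unfold compS
  have h2 : Nat.card ((Subgroup.centralizer ({A} : Set SL2)).map (mk2 (F := F))) ∣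
      Nat.card (Subgroup.centralizer ({A} : Set SL2)) := Subgroup.card_map_dvd _ _
  exact Nat.Coprime.coprime_dvd_left h2 h1

omit hT in
theorem mem_centralizer_iff'' (A B : SL2) :
    B ∈ Subgroup.centralizer ({A} : Set SL2) ↔ B * A = A * B := by
  rw [Subgroup.mem_centralizer_singleton_iff]

theorem comp2_t_inv (A : SL2) (hA : (Matrix.trace (A : Matrix (Fin 2) (Fin 2) F)) ^ 2 ≠ 4)
    (hAc : A ∉ Subgroup.center SL2)
    (n : PSL2) (hn : n ∈ nrm (comp2 (mk2 A))) (hn' : n ∉ comp2 (mk2 A)) :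
    n ^ 2 = 1 ∧ ∀ c ∈ comp2 (mk2 A), n * c * n⁻¹ = c⁻¹ := by
  obtain ⟨Y, rfl⟩ := mk2_surjective n
  rw [mem_nrm_comp2_iff A Y hAc] at hn
  rw [mem_comp2_iff] at hn'
  have h1 : Y * A * Y⁻¹ ∈ Subgroup.centralizer ({A} : Set SL2) :=
    (mem_centralizer_iff'' A _).2 hn
  have h2 : Y ∉ Subgroup.centralizer ({A} : Set SL2) := fun h =>
    hn' ((mem_centralizer_iff'' A _).1 h)
  obtain ⟨h3, h4, -⟩ := hT.nrm A hA Y Y h1 h2 h1 h2
  constructor
  · rw [← map_pow]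
    exact (mk2_eq_one_iff _).2 h3
  · intro c hc
    obtain ⟨B, rfl⟩ := mk2_surjective c
    rw [mem_comp2_iff] at hc
    rw [← map_inv, ← map_mul, ← map_mul, h4 B ((mem_centralizer_iff'' A _).2 hc), map_inv]

theorem comp2_t_idx (A : SL2) (hA : (Matrix.trace (A : Matrix (Fin 2) (Fin 2) F)) ^ 2 ≠ 4)
    (hAc : A ∉ Subgroup.center SL2)
    (n : PSL2) (hn : n ∈ nrm (comp2 (mk2 A))) (n' : PSL2) (hn' : n' ∈ nrm (comp2 (mk2 A)))
    (hnc : n ∉ comp2 (mk2 A)) (hnc' : n' ∉ comp2 (mk2 A)) : n * n' ∈ comp2 (mk2 A) := by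
  obtain ⟨Y, rfl⟩ := mk2_surjective n
  obtain ⟨Y', rfl⟩ := mk2_surjective n'
  rw [mem_nrm_comp2_iff A _ hAc] at hn hn'
  rw [mem_comp2_iff] at hnc hnc'
  have h1 : Y * A * Y⁻¹ ∈ Subgroup.centralizer ({A} : Set SL2) :=
    (mem_centralizer_iff'' A _).2 hn
  have h2 : Y ∉ Subgroup.centralizer ({A} : Set SL2) := fun h =>
    hnc ((mem_centralizer_iff'' A _).1 h)
  have h1' : Y' * A * Y'⁻¹ ∈ Subgroup.centralizer ({A} : Set SL2) :=
    (mem_centralizer_iff'' A _).2 hn'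
  have h2' : Y' ∉ Subgroup.centralizer ({A} : Set SL2) := fun h =>
    hnc' ((mem_centralizer_iff'' A _).1 h)
  obtain ⟨-, -, h5⟩ := hT.nrm A hA Y Y' h1 h2 h1' h2'
  rw [← map_mul, mem_comp2_iff]
  exact (mem_centralizer_iff'' A _).1 h5

end

end Cfsg.Agent.Lib.Helper48.Dickson
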