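import Mathlib
import Cfsg.Agent.Lib.Helper48.Dickson.Concrete1

set_option autoImplicit false

/-! # Unipotent components: the `U`-type fields, from the facts about the Borel subgroup -/

namespace Cfsg.Agent.Lib.Helper48.Dickson

open Matrix

section

variable {F : Type*} [Field F]

local notation "SL2" => Matrix.SpecialLinearGroup (Fin 2) F
local notation "PSL2" => Matrix.ProjectiveSpecialLinearGroup (Fin 2) F

/-- upper unitriangular matrices -/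
def uMat (x : F) : SL2 := ⟨!![1, x; 0, 1], by simp [Matrix.det_fin_two_of]⟩

/-- the facts about the Borel subgroup (Package U) -/
structure UPack (F : Type*) [Field F] [Fintype F] (p : ℕ) : Prop where
  Ua : ∀ B : Matrix.SpecialLinearGroup (Fin 2) F,
    B * uMat 1 = uMat 1 * B ↔ (B.1 1 0 = 0 ∧ B.1 0 0 = B.1 1 1)
  Ub : ∀ Y : Matrix.SpecialLinearGroup (Fin 2) F, (Y * uMat 1 * Y⁻¹).1 1 0 = 0 ↔ Y.1 1 0 = 0
  Uc : ∀ Y : Matrix.SpecialLinearGroup (Fin 2) F, Y.1 1 0 = 0 → (Y.1 0 0) ^ 2 ≠ 1 →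
    (mk2 Y) ^ (Fintype.card F - 1) = 1
  Ud : ∃ Y0 : Matrix.SpecialLinearGroup (Fin 2) F, Y0.1 1 0 = 0 ∧
    ∀ Y : Matrix.SpecialLinearGroup (Fin 2) F, Y.1 1 0 = 0 →
    ∃ i : ℕ, (Y * Y0 ^ i).1 1 0 = 0 ∧ (Y * Y0 ^ i).1 0 0 = 1 ∧ (Y * Y0 ^ i).1 1 1 = 1
  Ue : ∀ Y : Matrix.SpecialLinearGroup (Fin 2) F, Y.1 1 0 = 0 → (Y.1 0 0) ^ 2 ≠ 1 →
    ∀ x : F, x ≠ 0 → mk2 (Y * uMat x * Y⁻¹) ≠ mk2 (uMat x)
  Uf : ∀ Y W : Matrix.SpecialLinearGroup (Fin 2) F, Y.1 1 0 = 0 → (Y.1 0 0) ^ 2 ≠ 1 →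
    W * Y = Y * W → W.1 1 0 = 0
  Ug1 : ∀ x : F, (mk2 (uMat x)) ^ p = 1
  Ug2 : ∀ Sg : Subgroup (Matrix.ProjectiveSpecialLinearGroup (Fin 2) F), IsPGroup p Sg →
    ∃ X : Matrix.SpecialLinearGroup (Fin 2) F, ∀ y ∈ Sg, ∃ x : F, y = mk2 (X * uMat x * X⁻¹)
  Uh : ∀ A : Matrix.SpecialLinearGroup (Fin 2) F,
    A ∉ Subgroup.center (Matrix.SpecialLinearGroup (Fin 2) F) →
    (Matrix.trace (A : Matrix (Fin 2) (Fin 2) F)) ^ 2 = 4 →
    ∃ X : Matrix.SpecialLinearGroup (Fin 2) F,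
      (X * A * X⁻¹).1 1 0 = 0 ∧ (X * A * X⁻¹).1 0 0 = (X * A * X⁻¹).1 1 1

/-- the good properties of a `U`-type component, as a predicate on subgroups -/
def UGood (p : ℕ) (C : Subgroup PSL2) : Prop :=
  IsPGroup p C ∧
  (∀ n ∈ nrm C, n ∉ C → ¬ p ∣ orderOf n) ∧
  (∃ n0 ∈ nrm C, ∀ n ∈ nrm C, ∃ i : ℕ, n * n0 ^ i ∈ C) ∧
  (∀ n ∈ nrm C, n ∉ C → ∀ c ∈ C, c ≠ 1 → n * c * n⁻¹ ≠ c) ∧
  (∀ n ∈ nrm C, n ∉ C → comp2 n ≤ nrm C)

/-- transport of `UGood` along conjugation -/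
theorem uGood_conj {p : ℕ} (C C' : Subgroup PSL2) (x : PSL2)
    (hC' : ∀ y, y ∈ C' ↔ x⁻¹ * y * x ∈ C) (h : UGood p C) : UGood p C' := by
  obtain ⟨h1, h2, ⟨n0, hn0, h3⟩, h4, h5⟩ := h
  have hnrm : ∀ n, n ∈ nrm C' ↔ x⁻¹ * n * x ∈ nrm C := by
    intro n
    rw [mem_nrm_iff, mem_nrm_iff]
    constructor
    · intro hn y
      have := hn (x * y * x⁻¹)
      rw [hC', hC'] at this
      have e1 : x⁻¹ * (x * y * x⁻¹) * x = y := by group
      have e2 : x⁻¹ * (n * (x * y * x⁻¹) * n⁻¹) * x = x⁻¹ * n * x * y * (x⁻¹ * n * x)⁻¹ := by group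
      rwa [e1, e2] at this
    · intro hn y
      have := hn (x⁻¹ * y * x)
      rw [hC', hC']
      have e2 : x⁻¹ * (n * y * n⁻¹) * x = x⁻¹ * n * x * (x⁻¹ * y * x) * (x⁻¹ * n * x)⁻¹ := by group
      rwa [e2]
  refine ⟨?_, ?_, ?_, ?_, ?_⟩
  · intro y
    obtain ⟨k, hk⟩ := h1 ⟨x⁻¹ * y.1 * x, (hC' y.1).1 y.2⟩
    refine ⟨k, ?_⟩
    apply Subtype.ext
    have h1' : (x⁻¹ * y.1 * x) ^ p ^ k = 1 := by simpa using congrArg Subtype.val hk
    have h2' : (x⁻¹ * y.1 * x) ^ p ^ k = x⁻¹ * y.1 ^ p ^ k * x := by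
      have := conj_pow (a := x⁻¹) (b := y.1) (i := p ^ k)
      simpa using this
    rw [h2'] at h1'
    have : y.1 ^ p ^ k = x * (x⁻¹ * y.1 ^ p ^ k * x) * x⁻¹ := by group
    simp only [Subgroup.coe_pow, Subgroup.coe_one]
    rw [this, h1']; group
  · intro n hn hn'
    have := h2 (x⁻¹ * n * x) ((hnrm n).1 hn) (fun h => hn' ((hC' n).2 h))
    have e : orderOf (x⁻¹ * n * x) = orderOf n := by
      have := orderOf_injective (MulAut.conj x⁻¹).toMonoidHom (MulAut.conj x⁻¹).injective n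
      simpa [MulAut.conj_apply] using this
    rwa [e] at this
  · refine ⟨x * n0 * x⁻¹, ?_, ?_⟩
    · rw [hnrm]
      have : x⁻¹ * (x * n0 * x⁻¹) * x = n0 := by group
      rwa [this]
    · intro n hn
      obtain ⟨i, hi⟩ := h3 _ ((hnrm n).1 hn)
      refine ⟨i, ?_⟩
      rw [hC']
      have : x⁻¹ * (n * (x * n0 * x⁻¹) ^ i) * x = x⁻¹ * n * x * n0 ^ i := by
        rw [conj_pow]; group
      rwa [this]
  · intro n hn hn' c hc hc1 heq
    apply h4 (x⁻¹ * n * x) ((hnrm n).1 hn) (fun h => hn' ((hC' n).2 h)) (x⁻¹ * c * x)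
      ((hC' c).1 hc)
    · intro h
      apply hc1
      have : c = x * (x⁻¹ * c * x) * x⁻¹ := by group
      rw [this, h]; group
    · have : x⁻¹ * n * x * (x⁻¹ * c * x) * (x⁻¹ * n * x)⁻¹ = x⁻¹ * (n * c * n⁻¹) * x := by group
      rw [this, heq]
  · intro n hn hn' y hy
    rw [hnrm]
    apply h5 (x⁻¹ * n * x) ((hnrm n).1 hn) (fun h => hn' ((hC' n).2 h))
    have := (comp2_conj x⁻¹ n (x⁻¹ * y * x)).2
    simp only [inv_inv] at this
    apply this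
    have e : x * (x⁻¹ * y * x) * x⁻¹ = y := by group
    rw [e]
    exact hy

theorem sl2_val_mul (A B : SL2) : (A * B).1 = A.1 * B.1 := rfl

theorem sl2_val_inv (A : SL2) : (A⁻¹).1 = Matrix.adjugate A.1 := rfl

theorem sl2_val_one : (1 : SL2).1 = 1 := rfl

theorem uMat_val (x : F) : (uMat x).1 = !![1, x; 0, 1] := rfl

theorem uMat_not_center (x : F) (hx : x ≠ 0) : uMat x ∉ Subgroup.center SL2 := by
  rw [mem_center_iff_isScalar]
  intro h
  exact hx (by simpa [uMat] using h.1)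

theorem uMat_mul (x y : F) : uMat x * uMat y = uMat (x + y) := by
  apply Subtype.ext
  rw [sl2_val_mul, uMat_val, uMat_val, uMat_val]
  ext i j
  fin_cases i <;> fin_cases j <;> simp [add_comm]

theorem uMat_zero : uMat (0 : F) = 1 := by
  apply Subtype.ext
  rw [sl2_val_one, uMat_val]
  ext i j
  fin_cases i <;> fin_cases j <;> simp

/-- the standard unipotent subgroup -/
noncomputable def Ubar : Subgroup PSL2 := comp2 (mk2 (uMat (1 : F)))

/-- entries of a conjugate of `uMat x` by an upper triangular matrix -/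
theorem conj_uMat_entries (Y : SL2) (hY : Y.1 1 0 = 0) (x : F) :
    (Y * uMat x * Y⁻¹).1 1 0 = 0 ∧ (Y * uMat x * Y⁻¹).1 0 0 = 1 ∧ (Y * uMat x * Y⁻¹).1 1 1 = 1 := by
  have hdet : Y.1 0 0 * Y.1 1 1 - Y.1 0 1 * Y.1 1 0 = 1 := by
    have := Y.2
    rwa [Matrix.det_fin_two] at this
  rw [hY] at hdet
  simp only [sl2_val_mul, sl2_val_inv, Matrix.adjugate_fin_two, uMat_val, Matrix.mul_apply,
    Fin.sum_univ_two]
  simp [hY]
  constructor
  · linear_combination hdet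
  · linear_combination hdet

end

section fin

variable {F : Type*} [Field F] [Fintype F] {p : ℕ} [Fact p.Prime] [CharP F p] (hU : UPack F p)

local notation "SL2" => Matrix.SpecialLinearGroup (Fin 2) F
local notation "PSL2" => Matrix.ProjectiveSpecialLinearGroup (Fin 2) F

include hU

theorem mem_Ubar_iff (B : SL2) : mk2 B ∈ (Ubar : Subgroup PSL2) ↔ B.1 1 0 = 0 ∧ B.1 0 0 = B.1 1 1 := by
  unfold Ubar
  rw [mem_comp2_iff]
  exact hU.Ua B

theorem mem_nrm_Ubar_iff (Y : SL2) : mk2 Y ∈ nrm (Ubar : Subgroup PSL2) ↔ Y.1 1 0 = 0 := by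
  unfold Ubar
  rw [mem_nrm_comp2_iff _ Y (uMat_not_center 1 one_ne_zero), hU.Ua]
  constructor
  · intro h
    exact (hU.Ub Y).1 h.1
  · intro h
    obtain ⟨h1, h2, h3⟩ := conj_uMat_entries Y h 1
    exact ⟨h1, by rw [h2, h3]⟩

theorem mem_Ubar_iff_exists (y : PSL2) : y ∈ (Ubar : Subgroup PSL2) ↔ ∃ x : F, y = mk2 (uMat x) := by
  constructor
  · intro hy
    obtain ⟨B, rfl⟩ := mk2_surjective y
    obtain ⟨h1, h2⟩ := (mem_Ubar_iff hU B).1 hy
    have hdet : B.1 0 0 * B.1 1 1 - B.1 0 1 * B.1 1 0 = 1 := by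
      have := B.2
      rwa [Matrix.det_fin_two] at this
    rw [h1, ← h2] at hdet
    have he : B.1 0 0 * B.1 0 0 = 1 := by linear_combination hdet
    let z : SL2 := ⟨!![B.1 0 0, 0; 0, B.1 0 0], by simp [Matrix.det_fin_two_of, he]⟩
    have hz : z ∈ Subgroup.center SL2 := by
      rw [mem_center_iff_isScalar]
      exact ⟨by simp [z], by simp [z], by simp [z]⟩
    refine ⟨B.1 0 0 * B.1 0 1, ?_⟩
    have hB : B = uMat (B.1 0 0 * B.1 0 1) * z := by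
      apply Subtype.ext
      rw [sl2_val_mul, uMat_val]
      ext i j
      fin_cases i <;> fin_cases j <;> simp [z, h1, ← h2]
      rw [mul_comm (B.1 0 0) (B.1 0 1), mul_assoc, he, mul_one]
    exact (mk2_eq_iff _ _).2 ⟨z, hz, hB⟩ |>.symm
  · rintro ⟨x, rfl⟩
    rw [mem_Ubar_iff hU]
    simp [uMat]

theorem p_dvd_card : p ∣ Fintype.card F := by
  rw [← CharP.cast_eq_zero_iff F p]
  exact Nat.cast_card_eq_zero F

theorem uGood_Ubar : UGood p (Ubar : Subgroup PSL2) := by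
  have hnotU : ∀ Y : SL2, Y.1 1 0 = 0 → mk2 Y ∉ (Ubar : Subgroup PSL2) → (Y.1 0 0) ^ 2 ≠ 1 := by
    intro Y hY hYU h
    apply hYU
    rw [mem_Ubar_iff hU]
    refine ⟨hY, ?_⟩
    have hdet : Y.1 0 0 * Y.1 1 1 - Y.1 0 1 * Y.1 1 0 = 1 := by
      have := Y.2
      rwa [Matrix.det_fin_two] at this
    rw [hY] at hdet
    have h0 : Y.1 0 0 ≠ 0 := by
      intro h0
      rw [h0] at h
      simp at h
    apply mul_left_cancel₀ h0
    linear_combination h - hdet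
  refine ⟨?_, ?_, ?_, ?_, ?_⟩
  · intro y
    obtain ⟨x, hx⟩ := (mem_Ubar_iff_exists hU y.1).1 y.2
    refine ⟨1, ?_⟩
    apply Subtype.ext
    simp only [pow_one, Subgroup.coe_pow, Subgroup.coe_one]
    rw [hx]
    exact hU.Ug1 x
  · intro n hn hn' hp
    obtain ⟨Y, rfl⟩ := mk2_surjective n
    rw [mem_nrm_Ubar_iff hU] at hn
    have h1 := hU.Uc Y hn (hnotU Y hn hn')
    have h2 : orderOf (mk2 Y) ∣ Fintype.card F - 1 := orderOf_dvd_of_pow_eq_one h1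
    have h3 : p ∣ Fintype.card F - 1 := dvd_trans hp h2
    have h4 : p ∣ Fintype.card F := p_dvd_card hU
    have hq : 1 ≤ Fintype.card F := Fintype.card_pos
    have h5 : p ∣ 1 := by
      have : Fintype.card F - (Fintype.card F - 1) = 1 := by omega
      rw [← this]
      exact Nat.dvd_sub h4 h3
    exact (Fact.out : p.Prime).one_lt.ne' (Nat.dvd_one.1 h5)
  · obtain ⟨Y0, hY0, h⟩ := hU.Ud
    refine ⟨mk2 Y0, (mem_nrm_Ubar_iff hU Y0).2 hY0, ?_⟩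
    intro n hn
    obtain ⟨Y, rfl⟩ := mk2_surjective n
    rw [mem_nrm_Ubar_iff hU] at hn
    obtain ⟨i, h1, h2, h3⟩ := h Y hn
    refine ⟨i, ?_⟩
    rw [← map_pow, ← map_mul, mem_Ubar_iff hU]
    exact ⟨h1, by rw [h2, h3]⟩
  · intro n hn hn' c hc hc1
    obtain ⟨Y, rfl⟩ := mk2_surjective n
    obtain ⟨x, rfl⟩ := (mem_Ubar_iff_exists hU c).1 hc
    rw [mem_nrm_Ubar_iff hU] at hn
    have hx : x ≠ 0 := by
      intro hx
      apply hc1
      rw [hx, uMat_zero, map_one]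
    rw [← map_inv, ← map_mul, ← map_mul]
    exact hU.Ue Y hn (hnotU Y hn hn') x hx
  · intro n hn hn' w hw
    obtain ⟨Y, rfl⟩ := mk2_surjective n
    obtain ⟨W, rfl⟩ := mk2_surjective w
    rw [mem_nrm_Ubar_iff hU] at hn ⊢
    rw [mem_comp2_iff] at hw
    exact hU.Uf Y W hn (hnotU Y hn hn') hw

end fin

end Cfsg.Agent.Lib.Helper48.Dickson
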