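import Mathlib
import Cfsg.Agent.Lib.Helper48.Dickson.Concrete2
import Cfsg.Agent.Lib.Helper48.Dickson.Concrete3
import Cfsg.Agent.Lib.Helper48.Dickson.Abstract6

set_option autoImplicit false

/-! # The Dickson structure on `PSL(2,F)`, from the packages `T` and `U` -/

namespace Cfsg.Agent.Lib.Helper48.Dickson

open Matrix

section

variable {F : Type*} [Field F] [Fintype F] {p : ℕ} [Fact p.Prime] [CharP F p]

local notation "SL2" => Matrix.SpecialLinearGroup (Fin 2) F
local notation "PSL2" => Matrix.ProjectiveSpecialLinearGroup (Fin 2) F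

omit [Fintype F] [CharP F p] in
theorem not_pgroup_and_coprime {X : Type*} [Group X] [Finite X] [Nontrivial X]
    (h1 : IsPGroup p X) (h2 : (Nat.card X).Coprime p) : False := by
  obtain ⟨k, hk⟩ := h1.exists_card_eq
  have hp : p.Prime := Fact.out
  rcases Nat.eq_zero_or_pos k with h0 | h0
  · rw [h0, pow_zero] at hk
    have : 1 < Nat.card X := Finite.one_lt_card
    omega
  · have h3 : p ∣ Nat.card X := by rw [hk]; exact dvd_pow_self p h0.ne'
    have h4 : p ∣ Nat.gcd (Nat.card X) p := Nat.dvd_gcd h3 dvd_rfl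
    rw [h2] at h4
    exact hp.one_lt.ne' (Nat.dvd_one.1 h4)

theorem uGood_of_trace (hU : UPack F p) (A : SL2) (hA : A ∉ Subgroup.center SL2)
    (ht : (Matrix.trace (A : Matrix (Fin 2) (Fin 2) F)) ^ 2 = 4) : UGood p (comp2 (mk2 A)) := by
  obtain ⟨X, h1, h2⟩ := hU.Uh A hA ht
  have hg : mk2 A ≠ 1 := fun h => hA ((mk2_eq_one_iff A).1 h)
  have hmem : mk2 (X * A * X⁻¹) ∈ (Ubar : Subgroup PSL2) := (mem_Ubar_iff hU _).2 ⟨h1, h2⟩
  have hne : mk2 (X * A * X⁻¹) ≠ 1 := by
    rw [map_mul, map_mul, map_inv]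
    exact DStruct.conj_ne_one hg
  have hu1 : mk2 (uMat (1 : F)) ≠ 1 := fun h =>
    uMat_not_center (1 : F) one_ne_zero ((mk2_eq_one_iff _).1 h)
  have hcomp : comp2 (mk2 (X * A * X⁻¹)) = (Ubar : Subgroup PSL2) :=
    comp2_eq (mk2 (uMat (1 : F))) hu1 _ hmem hne
  refine uGood_conj (Ubar : Subgroup PSL2) (comp2 (mk2 A)) (mk2 X)⁻¹ ?_ (uGood_Ubar hU)
  intro y
  rw [inv_inv, ← hcomp, map_mul, map_mul, map_inv, comp2_conj]
  have : (mk2 X)⁻¹ * (mk2 X * y * (mk2 X)⁻¹) * mk2 X = y := by group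
  rw [this]

/-- the Dickson structure on `PSL(2,F)` -/
noncomputable def dstruct (hT : TPack F p) (hU : UPack F p) : DStruct PSL2 p where
  comp := comp2
  mem_comp := mem_comp2_self
  comp_comm := comp2_comm
  comp_eq := comp2_eq
  comp_conj := fun x g y _ => comp2_conj x g y
  dich := by
    intro g hg
    obtain ⟨A, rfl⟩ := mk2_surjective g
    have hA : A ∉ Subgroup.center SL2 := fun h => hg ((mk2_eq_one_iff A).2 h)
    by_cases ht : (Matrix.trace (A : Matrix (Fin 2) (Fin 2) F)) ^ 2 = 4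
    · left; exact (uGood_of_trace hU A hA ht).1
    · right; exact comp2_coprime hT A ht
  u_not_dvd := by
    intro g hg hp
    obtain ⟨A, rfl⟩ := mk2_surjective g
    have hA : A ∉ Subgroup.center SL2 := fun h => hg ((mk2_eq_one_iff A).2 h)
    have : Nontrivial (comp2 (mk2 A)) :=
      ⟨⟨⟨mk2 A, mem_comp2_self _⟩, 1, fun h => hg (congrArg Subtype.val h)⟩⟩
    by_cases ht : (Matrix.trace (A : Matrix (Fin 2) (Fin 2) F)) ^ 2 = 4
    · exact (uGood_of_trace hU A hA ht).2.1
    · exact (not_pgroup_and_coprime hp (comp2_coprime hT A ht)).elim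
  u_cyc := by
    intro g hg hp
    obtain ⟨A, rfl⟩ := mk2_surjective g
    have hA : A ∉ Subgroup.center SL2 := fun h => hg ((mk2_eq_one_iff A).2 h)
    have : Nontrivial (comp2 (mk2 A)) :=
      ⟨⟨⟨mk2 A, mem_comp2_self _⟩, 1, fun h => hg (congrArg Subtype.val h)⟩⟩
    by_cases ht : (Matrix.trace (A : Matrix (Fin 2) (Fin 2) F)) ^ 2 = 4
    · exact (uGood_of_trace hU A hA ht).2.2.1
    · exact (not_pgroup_and_coprime hp (comp2_coprime hT A ht)).elim
  u_free := by
    intro g hg hp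
    obtain ⟨A, rfl⟩ := mk2_surjective g
    have hA : A ∉ Subgroup.center SL2 := fun h => hg ((mk2_eq_one_iff A).2 h)
    have : Nontrivial (comp2 (mk2 A)) :=
      ⟨⟨⟨mk2 A, mem_comp2_self _⟩, 1, fun h => hg (congrArg Subtype.val h)⟩⟩
    by_cases ht : (Matrix.trace (A : Matrix (Fin 2) (Fin 2) F)) ^ 2 = 4
    · exact (uGood_of_trace hU A hA ht).2.2.2.1
    · exact (not_pgroup_and_coprime hp (comp2_coprime hT A ht)).elim
  u_comp := by
    intro g hg hp
    obtain ⟨A, rfl⟩ := mk2_surjective g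
    have hA : A ∉ Subgroup.center SL2 := fun h => hg ((mk2_eq_one_iff A).2 h)
    have : Nontrivial (comp2 (mk2 A)) :=
      ⟨⟨⟨mk2 A, mem_comp2_self _⟩, 1, fun h => hg (congrArg Subtype.val h)⟩⟩
    by_cases ht : (Matrix.trace (A : Matrix (Fin 2) (Fin 2) F)) ^ 2 = 4
    · exact (uGood_of_trace hU A hA ht).2.2.2.2
    · exact (not_pgroup_and_coprime hp (comp2_coprime hT A ht)).elim
  u_sylow := by
    intro S hS hne
    obtain ⟨X, hX⟩ := hU.Ug2 S hS
    have hu1 : uMat (1 : F) ∉ Subgroup.center SL2 := uMat_not_center (1 : F) one_ne_zero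
    have hg : mk2 (X * uMat (1 : F) * X⁻¹) ≠ 1 := by
      rw [map_mul, map_mul, map_inv]
      exact DStruct.conj_ne_one (fun h => hu1 ((mk2_eq_one_iff _).1 h))
    have hnc : X * uMat (1 : F) * X⁻¹ ∉ Subgroup.center SL2 := fun h => hg ((mk2_eq_one_iff _).2 h)
    refine ⟨mk2 (X * uMat (1 : F) * X⁻¹), hg, ?_, ?_⟩
    · refine (uGood_of_trace hU _ hnc ?_).1
      have : Matrix.trace ((X * uMat (1 : F) * X⁻¹ : SL2) : Matrix (Fin 2) (Fin 2) F) =
          Matrix.trace ((uMat (1 : F) : SL2) : Matrix (Fin 2) (Fin 2) F) := by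
        change Matrix.trace ((X.1 * (uMat (1 : F)).1) * (X⁻¹).1) = _
        rw [Matrix.trace_mul_comm, ← Matrix.mul_assoc]
        have : (X⁻¹).1 * X.1 = 1 := by
          have := congrArg Subtype.val (inv_mul_cancel X)
          exact this
        rw [this, Matrix.one_mul]
      rw [this, uMat_val, Matrix.trace_fin_two_of]
      norm_num
    · intro y hy
      obtain ⟨x, rfl⟩ := hX y hy
      rw [mem_comp2_iff]
      have : uMat x * uMat (1 : F) = uMat (1 : F) * uMat x := by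
        rw [uMat_mul, uMat_mul, add_comm]
      calc X * uMat x * X⁻¹ * (X * uMat 1 * X⁻¹) = X * (uMat x * uMat 1) * X⁻¹ := by group
        _ = X * (uMat 1 * uMat x) * X⁻¹ := by rw [this]
        _ = X * uMat 1 * X⁻¹ * (X * uMat x * X⁻¹) := by group
  t_cyc := by
    intro g hg hc
    obtain ⟨A, rfl⟩ := mk2_surjective g
    have hA : A ∉ Subgroup.center SL2 := fun h => hg ((mk2_eq_one_iff A).2 h)
    have : Nontrivial (comp2 (mk2 A)) :=
      ⟨⟨⟨mk2 A, mem_comp2_self _⟩, 1, fun h => hg (congrArg Subtype.val h)⟩⟩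
    by_cases ht : (Matrix.trace (A : Matrix (Fin 2) (Fin 2) F)) ^ 2 = 4
    · exact (not_pgroup_and_coprime (uGood_of_trace hU A hA ht).1 hc).elim
    · exact comp2_cyc hT A ht
  t_inv := by
    intro g hg hc
    obtain ⟨A, rfl⟩ := mk2_surjective g
    have hA : A ∉ Subgroup.center SL2 := fun h => hg ((mk2_eq_one_iff A).2 h)
    have : Nontrivial (comp2 (mk2 A)) :=
      ⟨⟨⟨mk2 A, mem_comp2_self _⟩, 1, fun h => hg (congrArg Subtype.val h)⟩⟩
    by_cases ht : (Matrix.trace (A : Matrix (Fin 2) (Fin 2) F)) ^ 2 = 4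
    · exact (not_pgroup_and_coprime (uGood_of_trace hU A hA ht).1 hc).elim
    · exact comp2_t_inv hT A ht hA
  t_idx := by
    intro g hg hc
    obtain ⟨A, rfl⟩ := mk2_surjective g
    have hA : A ∉ Subgroup.center SL2 := fun h => hg ((mk2_eq_one_iff A).2 h)
    have : Nontrivial (comp2 (mk2 A)) :=
      ⟨⟨⟨mk2 A, mem_comp2_self _⟩, 1, fun h => hg (congrArg Subtype.val h)⟩⟩
    by_cases ht : (Matrix.trace (A : Matrix (Fin 2) (Fin 2) F)) ^ 2 = 4
    · exact (not_pgroup_and_coprime (uGood_of_trace hU A hA ht).1 hc).elim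
    · exact comp2_t_idx hT A ht hA

end

end Cfsg.Agent.Lib.Helper48.Dickson
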