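import Mathlib
import Cfsg.Agent.Lib.Helper48.Dickson.Concrete4
import Cfsg.Agent.Lib.Helper48.PSL2Spec

set_option autoImplicit false

/-! # Dickson's theorem, assembled from the packages -/

namespace Cfsg.Agent.Lib.Helper48.Dickson

open Matrix

section

variable {F : Type*} [Field F] [Fintype F] {p : ℕ} [Fact p.Prime] [CharP F p]

local notation "SL2" => Matrix.SpecialLinearGroup (Fin 2) F
local notation "PSL2" => Matrix.ProjectiveSpecialLinearGroup (Fin 2) F

/-- the statement of the doubly transitive case -/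
def TwoTransStatement (F : Type*) [Field F] [Fintype F] (p : ℕ) : Prop :=
  ∀ (H Q : Subgroup (Matrix.ProjectiveSpecialLinearGroup (Fin 2) F)), Q ≤ H → IsPGroup p Q →
    ∀ (P k : ℕ), 1 < P → Nat.card Q = P →
    Nat.card (H ⊓ Subgroup.normalizer (Q : Set _) : Subgroup _) = P * k →
    Nat.card H = (P + 1) * P * k → (k = P - 1 ∨ 2 * k = P - 1) →
    ∃ (K : Type) (_ : Field K) (_ : Fintype K) (m : ℕ), Fintype.card K ^ m = Fintype.card F ∧
      (Nonempty (H ≃* Matrix.ProjectiveSpecialLinearGroup (Fin 2) K) ∨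
        Nonempty (H ≃* Matrix.ProjGenLinGroup (Fin 2) K))

omit [Fintype F] [CharP F p] in
/-- a `U`-type component is a Sylow `p`-subgroup -/
theorem DStruct.comp_sylow {G : Type*} [Group G] [Finite G] (D : DStruct G p) {g : G} (hg : g ≠ 1)
    (hU : IsPGroup p (D.comp g)) : ∃ P : Sylow p G, (P : Subgroup G) = D.comp g := by
  obtain ⟨P, hP⟩ := hU.exists_le_sylow
  refine ⟨P, le_antisymm ?_ hP⟩
  have hne : (P : Subgroup G) ≠ ⊥ := by
    intro h
    have := hP (D.mem_comp g)
    rw [h, Subgroup.mem_bot] at this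
    exact hg this
  obtain ⟨g0, hg0, hp0, hle⟩ := D.u_sylow P P.2 hne
  have h1 : D.comp g = D.comp g0 := D.comp_eq_of_mem hg0 hg (hle (hP (D.mem_comp g)))
  rw [h1]
  exact hle

/-- the order of a torus divides `(q+1)/d` or `(q-1)/d` -/
theorem card_torus_dvd (hT : TPack F p) (hU : UPack F p) (g : PSL2) (hg : g ≠ 1)
    (hc : (Nat.card ((dstruct hT hU).comp g)).Coprime p) :
    Nat.card ((dstruct hT hU).comp g) ∣ (Fintype.card F + 1) / Nat.gcd 2 (Fintype.card F - 1) ∨
    Nat.card ((dstruct hT hU).comp g) ∣ (Fintype.card F - 1) / Nat.gcd 2 (Fintype.card F - 1) := by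
  have hcyc := (dstruct hT hU).t_cyc g hg hc
  obtain ⟨c, hc'⟩ := IsCyclic.exists_generator (α := (dstruct hT hU).comp g)
  have hord : orderOf c = Nat.card ((dstruct hT hU).comp g) := orderOf_eq_card_of_forall_mem_zpowers hc'
  have hord' : orderOf c.1 = Nat.card ((dstruct hT hU).comp g) := by
    rw [← hord]; exact (Subgroup.orderOf_coe c)
  rcases psl2_orderOf_dvd p c.1 with h | h | h
  · -- the order divides p and is coprime to p
    rw [hord'] at h
    have h1 : Nat.card ((dstruct hT hU).comp g) ∣ Nat.gcd (Nat.card ((dstruct hT hU).comp g)) p :=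
      Nat.dvd_gcd dvd_rfl h
    rw [hc] at h1
    left
    rw [Nat.dvd_one.1 h1]
    exact one_dvd _
  · right; rw [← hord']; exact h
  · left; rw [← hord']; exact h

/-- Dickson's theorem -/
theorem dickson_main (hT : TPack F p) (hU : UPack F p) (h2 : TwoTransStatement F p) {q : ℕ}
    (hF : Fintype.card F = q) (H : Subgroup PSL2) :
    (∃ k : ℕ, (k ∣ (q + 1) / Nat.gcd 2 (q - 1) ∨ k ∣ (q - 1) / Nat.gcd 2 (q - 1)) ∧
      ((IsCyclic H ∧ Nat.card H = k) ∨ Nonempty (H ≃* DihedralGroup k))) ∨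
    (∃ (P : Sylow p PSL2) (K : Subgroup PSL2),
      K ≤ Subgroup.normalizer ((P : Subgroup PSL2) : Set PSL2) ∧ Nonempty (H ≃* K)) ∨
    Nonempty (H ≃* alternatingGroup (Fin 4)) ∨ Nonempty (H ≃* Equiv.Perm (Fin 4)) ∨
    Nonempty (H ≃* alternatingGroup (Fin 5)) ∨
    (∃ (K : Type) (_ : Field K) (_ : Fintype K) (m : ℕ), Fintype.card K ^ m = q ∧
      (Nonempty (H ≃* Matrix.ProjectiveSpecialLinearGroup (Fin 2) K) ∨
        Nonempty (H ≃* Matrix.ProjGenLinGroup (Fin 2) K))) := by
  subst hF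
  rcases (dstruct hT hU).outcome2 H with ⟨g, hg, hc, k, hk, hH⟩ | hbot | ⟨g, hg, hp, hle⟩ | h4 | h4 |
    h5 | ⟨Q, hQH, hQp, P, k, hP, hQ, hN, hH, hk⟩
  · left
    refine ⟨k, ?_, hH⟩
    rcases card_torus_dvd hT hU g hg hc with h | h
    · left; exact dvd_trans hk h
    · right; exact dvd_trans hk h
  · left
    refine ⟨1, Or.inl (one_dvd _), Or.inl ⟨?_, ?_⟩⟩
    · rw [hbot]; infer_instance
    · rw [hbot]; exact Subgroup.card_bot
  · right; left
    obtain ⟨P, hP⟩ := (dstruct hT hU).comp_sylow hg hp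
    refine ⟨P, H, ?_, ⟨MulEquiv.refl _⟩⟩
    rw [hP]
    exact hle
  · right; right; left; exact h4
  · right; right; right; left; exact h4
  · right; right; right; right; left; exact h5
  · right; right; right; right; right
    exact h2 H Q hQH hQp P k hP hQ hN hH hk

end

end Cfsg.Agent.Lib.Helper48.Dickson
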