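import Mathlib
import Cfsg.Agent.Lib.Helper48.Dickson.Main
import Cfsg.Agent.Lib.Helper98.SL2Borel
import Cfsg.Agent.Lib.Helper42.SL2Torus
import Cfsg.Agent.Lib.Helper19.TwoTrans

set_option autoImplicit false

/-! # The packages `T`, `U` and the doubly transitive case, as proved by helper42, helper98 and
helper19 -/

namespace Cfsg.Agent.Lib.Helper48.Dickson

open Matrix

section

variable {F : Type*} [Field F] [Fintype F] (p : ℕ) [Fact p.Prime] [CharP F p]

theorem uMat_eq (x : F) : uMat x = Cfsg.Agent.Lib.Helper98.SL2Borel.uMat x := rfl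

theorem tPack : TPack F p where
  cyc := fun A hA => Cfsg.Agent.Lib.Helper42.SL2Torus.isCyclic_centralizer A hA
  coprime := fun A hA => Cfsg.Agent.Lib.Helper42.SL2Torus.coprime_card_centralizer p A hA
  nrm := fun A hA => Cfsg.Agent.Lib.Helper42.SL2Torus.normalizer_facts A hA

theorem uPack : UPack F p where
  Ua := fun B => by
    rw [uMat_eq]; exact Cfsg.Agent.Lib.Helper98.SL2Borel.commute_uMat_one_iff B
  Ub := fun Y => by
    rw [uMat_eq]; exact Cfsg.Agent.Lib.Helper98.SL2Borel.conj_uMat_one_lower_iff Y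
  Uc := fun Y h ha => Cfsg.Agent.Lib.Helper98.SL2Borel.mk_pow_card_sub_one_of_upper Y h ha
  Ud := Cfsg.Agent.Lib.Helper98.SL2Borel.exists_diag_generator
  Ue := fun Y h ha x hx => by
    rw [uMat_eq]; exact Cfsg.Agent.Lib.Helper98.SL2Borel.mk_conj_uMat_ne Y h ha x hx
  Uf := fun Y W h ha hc => Cfsg.Agent.Lib.Helper98.SL2Borel.lower_eq_zero_of_commute Y W h ha hc
  Ug1 := fun x => by
    rw [uMat_eq]; exact Cfsg.Agent.Lib.Helper98.SL2Borel.mk_uMat_pow_char p x
  Ug2 := fun Sg hSg => Cfsg.Agent.Lib.Helper98.SL2Borel.exists_conj_uMat_of_isPGroup p Sg hSg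
  Uh := fun A hA ht => Cfsg.Agent.Lib.Helper98.SL2Borel.exists_conj_upper_of_trace_sq A hA ht

theorem twoTrans : TwoTransStatement F p := fun H Q hQH hQp P k hP hQ hN hH hk =>
  Cfsg.Agent.Lib.Helper19.TwoTrans.two_transitive_case p H Q hQH hQp P k hP hQ hN hH hk

end

end Cfsg.Agent.Lib.Helper48.Dickson
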