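import Mathlib

set_option autoImplicit false

/-! # Counting with a TI subgroup whose normalizer is "dihedral-like" -/

namespace Cfsg.Agent.Lib.Helper48.Dickson

theorem card_dvd_two_mul_of_stab {A X : Type*} [Group A] [MulAction A X] [Finite A] [Finite X]
    (h : ∀ x : X, Nat.card (MulAction.stabilizer A x) ∣ 2) : Nat.card A ∣ 2 * Nat.card X := by
  classical
  have : Fintype (MulAction.orbitRel.Quotient A X) := Fintype.ofFinite _
  rw [Nat.card_congr (MulAction.selfEquivSigmaOrbits A X), Nat.card_sigma, Finset.mul_sum]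
  apply Finset.dvd_sum
  intro ω _
  have h1 := Nat.card_congr (MulAction.orbitProdStabilizerEquivGroup A ω.out)
  rw [Nat.card_prod] at h1
  obtain ⟨k, hk⟩ := h ω.out
  rw [← h1, hk]
  exact ⟨k, by ring⟩

/-- two-sided version -/
theorem card_mul_dvd_two_mul {G : Type*} [Group G] [Finite G] (Q N : Subgroup G) (T : Set G)
    (hT : ∀ x ∈ Q, ∀ n ∈ N, ∀ t ∈ T, x * t * n⁻¹ ∈ T)
    (hstab : ∀ x ∈ Q, ∀ n ∈ N, ∀ t ∈ T, x * t * n⁻¹ = t → x ^ 2 = 1)
    (hQ : ∀ x ∈ Q, ∀ y ∈ Q, x ^ 2 = 1 → y ^ 2 = 1 → x ≠ 1 → y ≠ 1 → x = y) :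
    Nat.card Q * Nat.card N ∣ 2 * Nat.card T := by
  classical
  let _ : MulAction (Q × N) T :=
    { smul := fun a t => ⟨a.1.1 * t.1 * a.2.1⁻¹, hT _ a.1.2 _ a.2.2 _ t.2⟩
      one_smul := fun t => by
        apply Subtype.ext
        change (1 : G) * t.1 * (1 : G)⁻¹ = t.1
        group
      mul_smul := fun a b t => by
        apply Subtype.ext
        change (a.1.1 * b.1.1) * t.1 * (a.2.1 * b.2.1)⁻¹ = a.1.1 * (b.1.1 * t.1 * b.2.1⁻¹) * a.2.1⁻¹
        group }
  rw [← Nat.card_prod]
  apply card_dvd_two_mul_of_stab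
  intro t
  -- the stabilizer has at most two elements
  have hle : Nat.card (MulAction.stabilizer (Q × N) t) ≤ 2 := by
    by_contra hgt
    push Not at hgt
    have h3 : 2 < Nat.card (MulAction.stabilizer (Q × N) t) := hgt
    obtain ⟨a, ha1⟩ : ∃ a : MulAction.stabilizer (Q × N) t, a ≠ 1 := by
      by_contra h
      push Not at h
      have : Subsingleton (MulAction.stabilizer (Q × N) t) := ⟨fun x y => by rw [h x, h y]⟩
      have := Nat.card_unique (α := MulAction.stabilizer (Q × N) t)
      omega
    obtain ⟨b, hb1, hba⟩ : ∃ b : MulAction.stabilizer (Q × N) t, b ≠ 1 ∧ b ≠ a := by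
      by_contra h
      push Not at h
      have hall : ∀ x : MulAction.stabilizer (Q × N) t, x = 1 ∨ x = a := by
        intro x
        by_cases hx : x = 1
        · left; exact hx
        · right; exact h x hx
      have : Nat.card (MulAction.stabilizer (Q × N) t) ≤ 2 := by
        have : Nat.card (MulAction.stabilizer (Q × N) t) ≤ Nat.card (Fin 2) := by
          apply Nat.card_le_card_of_injective (fun x => if x = 1 then (0 : Fin 2) else 1)
          intro x y hxy
          rcases hall x with hx | hx <;> rcases hall y with hy | hy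
          · rw [hx, hy]
          · by_cases hya : y = 1
            · rw [hx, hya]
            · simp [hx, hya] at hxy
          · by_cases hxa : x = 1
            · rw [hy, hxa]
            · simp [hy, hxa] at hxy
          · rw [hx, hy]
        simpa using this
      omega
    have key : ∀ c : MulAction.stabilizer (Q × N) t, c.1.1.1 * t.1 * c.1.2.1⁻¹ = t.1 := by
      intro c
      have := c.2
      rw [MulAction.mem_stabilizer_iff] at this
      exact congrArg Subtype.val this
    have hsq : ∀ c : MulAction.stabilizer (Q × N) t, c.1.1.1 ^ 2 = 1 := fun c =>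
      hstab _ c.1.1.2 _ c.1.2.2 _ t.2 (key c)
    have hne : ∀ c : MulAction.stabilizer (Q × N) t, c ≠ 1 → c.1.1.1 ≠ 1 := by
      intro c hc h1
      apply hc
      have h2 := key c
      rw [h1, one_mul] at h2
      have h3 : c.1.2.1 = 1 := by
        have h4 : c.1.2.1⁻¹ = 1 := by
          have := congrArg (fun z => t.1⁻¹ * z) h2
          simpa using this
        simpa using h4
      apply Subtype.ext
      apply Prod.ext
      · exact Subtype.ext h1
      · exact Subtype.ext h3
    have hdet : ∀ c c' : MulAction.stabilizer (Q × N) t, c.1.1.1 = c'.1.1.1 → c = c' := by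
      intro c c' h
      have h2 := key c
      have h2' := key c'
      rw [h] at h2
      have h3 : c.1.2.1 = c'.1.2.1 := by
        have h4 : c'.1.1.1 * t.1 * c.1.2.1⁻¹ = c'.1.1.1 * t.1 * c'.1.2.1⁻¹ := h2.trans h2'.symm
        have h5 := mul_left_cancel h4
        simpa using h5
      apply Subtype.ext
      apply Prod.ext
      · exact Subtype.ext h
      · exact Subtype.ext h3
    exact hba (hdet b a (hQ _ b.1.1.2 _ a.1.1.2 (hsq b) (hsq a) (hne b hb1) (hne a ha1)))
  have hpos : 0 < Nat.card (MulAction.stabilizer (Q × N) t) := Nat.card_pos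
  interval_cases h : Nat.card (MulAction.stabilizer (Q × N) t)
  · norm_num
  · norm_num

/-- a cyclic group has at most one involution -/
theorem cyclic_involution_unique {C : Type*} [Group C] [Finite C] [IsCyclic C] (x y : C)
    (hx : x ^ 2 = 1) (hy : y ^ 2 = 1) (hx1 : x ≠ 1) (hy1 : y ≠ 1) : x = y := by
  classical
  have : Fintype C := Fintype.ofFinite C
  by_contra hxy
  have h := IsCyclic.card_pow_eq_one_le (α := C) (n := 2) (by norm_num)
  have hsub : ({1, x, y} : Finset C) ⊆ Finset.univ.filter (fun a : C => a ^ 2 = 1) := by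
    intro z hz
    simp only [Finset.mem_insert, Finset.mem_singleton] at hz
    simp only [Finset.mem_filter, Finset.mem_univ, true_and]
    rcases hz with rfl | rfl | rfl
    · simp
    · exact hx
    · exact hy
  have hcard : ({1, x, y} : Finset C).card = 3 := by
    rw [Finset.card_insert_of_notMem, Finset.card_insert_of_notMem, Finset.card_singleton]
    · simpa using hxy
    · simp only [Finset.mem_insert, Finset.mem_singleton, not_or]
      exact ⟨fun h => hx1 h.symm, fun h => hy1 h.symm⟩
  have := Finset.card_le_card hsub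
  omega

/-- The counting lemma: `C ≤ N ≤ M`, `C` a TI subgroup with at most one involution, such that the
elements of `N` outside `C` are involutions. Then `|C| |N|` divides `2 (|M| - |N|)`. -/
theorem ti_count {G : Type*} [Group G] [Finite G] (C N M : Subgroup G) (hCN : C ≤ N) (hNM : N ≤ M)
    (hTI : ∀ x ∈ M, ∀ c ∈ C, c ≠ 1 → x * c * x⁻¹ ∈ C → x ∈ N)
    (hinv : ∀ n ∈ N, n ∉ C → n ^ 2 = 1)
    (huniq : ∀ x ∈ C, ∀ y ∈ C, x ^ 2 = 1 → y ^ 2 = 1 → x ≠ 1 → y ≠ 1 → x = y) :
    Nat.card C * Nat.card N ∣ 2 * (Nat.card M - Nat.card N) := by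
  classical
  set T : Set G := {t | t ∈ M ∧ t ∉ N} with hTdef
  have hdvd : Nat.card C * Nat.card N ∣ 2 * Nat.card T := by
    apply card_mul_dvd_two_mul C N T
    · intro x hx n hn t ht
      refine ⟨M.mul_mem (M.mul_mem (hNM (hCN hx)) ht.1) (M.inv_mem (hNM hn)), fun h => ht.2 ?_⟩
      have : t = x⁻¹ * (x * t * n⁻¹) * n := by group
      rw [this]
      exact N.mul_mem (N.mul_mem (N.inv_mem (hCN hx)) h) hn
    · intro x hx n hn t ht hxt
      have hn' : n = t⁻¹ * x * t⁻¹⁻¹ := by
        have : n = t⁻¹ * (x * t * n⁻¹) * n := by rw [hxt]; group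
        rw [this]; group
      by_cases hx1 : x = 1
      · rw [hx1]; simp
      by_cases hnC : n ∈ C
      · exfalso
        have : t⁻¹ ∈ N := hTI t⁻¹ (M.inv_mem ht.1) x hx hx1 (hn' ▸ hnC)
        exact ht.2 (by simpa using N.inv_mem this)
      · have h2 := hinv n hn hnC
        rw [hn', conj_pow] at h2
        have : x ^ 2 = t * (t⁻¹ * x ^ 2 * t⁻¹⁻¹) * t⁻¹ := by group
        rw [this, h2]; group
    · exact huniq
  have hunion : (M : Set G) = (N : Set G) ∪ T := by
    ext t
    simp only [SetLike.mem_coe, Set.mem_union, hTdef, Set.mem_ofPred_eq]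
    constructor
    · intro ht
      by_cases h : t ∈ N
      · left; exact h
      · right; exact ⟨ht, h⟩
    · rintro (h | h)
      · exact hNM h
      · exact h.1
  have hdisj : Disjoint (N : Set G) T := by
    rw [Set.disjoint_left]
    intro t ht ht'
    exact ht'.2 ht
  have h1 : Nat.card M = Nat.card N + Nat.card T := by
    have := Set.ncard_union_eq hdisj (Set.toFinite _) (Set.toFinite _)
    rw [← hunion] at this
    exact this
  have h2 : Nat.card M - Nat.card N = Nat.card T := by omega
  rw [h2]
  exact hdvd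

end Cfsg.Agent.Lib.Helper48.Dickson
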