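import Mathlib
import Cfsg.Agent.Lib.Helper48.PSL2Spec

set_option autoImplicit false

/-! # Arithmetic for the maximality of the normalizer of a non-split torus -/

namespace Cfsg.Agent.Lib.Helper48.Dickson

theorem arithA (j a c : ℕ) (hj : 1 ≤ j)
    (h : 2 * ((1 + a * (2 * j + 1)) * (1 + c * (2 * j + 1))) = 2 * j * (2 * j - 1)) :
    a = 0 ∨ c = 0 := by
  by_contra hne
  push Not at hne
  have ha : 1 ≤ a := Nat.one_le_iff_ne_zero.2 hne.1
  have hc : 1 ≤ c := Nat.one_le_iff_ne_zero.2 hne.2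
  have h1 : (2 * j + 2) * (2 * j + 2) ≤ (1 + a * (2 * j + 1)) * (1 + c * (2 * j + 1)) := by
    apply Nat.mul_le_mul <;> nlinarith
  have h2 : 2 * j * (2 * j - 1) ≤ 2 * j * (2 * j) := Nat.mul_le_mul_left _ (Nat.sub_le _ _)
  nlinarith

theorem arithB (j a c : ℕ)
    (h : (1 + a * (2 * j + 1)) * (1 + c * (2 * j + 1)) = (4 * j + 1) * (2 * j)) :
    a = 0 ∨ c = 0 ∨ j = 2 := by
  by_contra hne
  push Not at hne
  obtain ⟨ha0, hc0, hj⟩ := hne
  have ha : 1 ≤ a := Nat.one_le_iff_ne_zero.2 ha0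
  have hc : 1 ≤ c := Nat.one_le_iff_ne_zero.2 hc0
  have hac : a * c ≤ 1 := by
    by_contra hlt
    push Not at hlt
    have : 2 ≤ a * c := hlt
    have h5 : 2 * ((2 * j + 1) * (2 * j + 1)) ≤ a * c * ((2 * j + 1) * (2 * j + 1)) :=
      Nat.mul_le_mul_right _ this
    have h6 : (1 + a * (2 * j + 1)) * (1 + c * (2 * j + 1)) =
        1 + a * (2 * j + 1) + c * (2 * j + 1) + a * c * ((2 * j + 1) * (2 * j + 1)) := by ring
    nlinarith
  have ha1 : a = 1 := by nlinarith
  have hc1 : c = 1 := by nlinarith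
  subst ha1 hc1
  have h3 : 2 * j * j = 3 * j + 2 := by nlinarith
  have hj4 : j ≤ 3 := by nlinarith
  interval_cases j <;> omega

theorem arithC (j a c : ℕ)
    (h : (1 + a * (j + 1)) * (1 + c * (j + 1)) = (4 * j + 3) * (2 * j + 1)) :
    a = 0 ∨ c = 0 ∨ j = 1 ∨ j = 3 ∨ j = 13 := by
  by_contra hne
  push Not at hne
  obtain ⟨ha0, hc0, hj1, hj3, hj13⟩ := hne
  have ha : 1 ≤ a := Nat.one_le_iff_ne_zero.2 ha0
  have hc : 1 ≤ c := Nat.one_le_iff_ne_zero.2 hc0
  have h1 : (j + 1) * (a + c + a * c * (j + 1)) = (j + 1) * (8 * j + 2) := by nlinarith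
  have h2 : a + c + a * c * (j + 1) = 8 * j + 2 := Nat.eq_of_mul_eq_mul_left (by omega) h1
  have hac : a * c ≤ 7 := by
    by_contra hlt
    push Not at hlt
    have : 8 ≤ a * c := hlt
    nlinarith
  have ha7 : a ≤ 7 := by nlinarith
  have hc7 : c ≤ 7 := by nlinarith
  interval_cases a <;> interval_cases c <;> omega

/-- the main arithmetic fact -/
theorem torus_plus_arith (q μ ν : ℕ) (hq : IsPrimePow q) (hq7 : q ≠ 7) (hq9 : q ≠ 9)
    (hμν : 2 * (μ * ν) = q * (q - 1))
    (hdiv : (q + 1) / Nat.gcd 2 (q - 1) ∣ 2 * (μ - 1)) (hμ : 1 ≤ μ) (hν : 1 ≤ ν) :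
    μ = 1 ∨ ν = 1 := by
  have hq2 : 2 ≤ q := hq.two_le
  -- the same divisibility for ν
  have hdivν : ∀ t : ℕ, t ∣ q + 1 → t ∣ 2 * (μ - 1) → t ∣ 2 * (ν - 1) := by
    intro t ht1 ht2
    obtain ⟨m, rfl⟩ : ∃ m, μ = m + 1 := ⟨μ - 1, by omega⟩
    obtain ⟨n, rfl⟩ : ∃ n, ν = n + 1 := ⟨ν - 1, by omega⟩
    obtain ⟨r, rfl⟩ : ∃ r, q = r + 2 := ⟨q - 2, by omega⟩
    simp only [Nat.add_sub_cancel] at ht2 ⊢
    have e1 : r + 2 - 1 = r + 1 := by omega
    rw [e1] at hμν
    -- 2(m+1)(n+1) = (r+2)(r+1) = (r+3) r + 2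
    have h3 : 2 * m * (n + 1) + 2 * n = (r + 3) * r := by nlinarith
    have h4 : t ∣ (r + 3) * r := Dvd.dvd.mul_right (by simpa [add_assoc] using ht1) r
    rw [← h3] at h4
    have h5 : t ∣ 2 * m * (n + 1) := Dvd.dvd.mul_right ht2 _
    exact (Nat.dvd_add_right h5).1 h4
  rcases Nat.even_or_odd q with he | ho
  · -- q even
    obtain ⟨j, hj⟩ := he
    have hj1 : 1 ≤ j := by omega
    have hg : Nat.gcd 2 (q - 1) = 1 := by
      rcases gcd_two_cases (q - 1) with ⟨h1, _⟩ | ⟨_, h2⟩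
      · exact h1
      · exfalso
        obtain ⟨k, hk⟩ := h2
        omega
    rw [hg, Nat.div_one] at hdiv
    have hodd : Nat.Coprime (q + 1) 2 := by
      rw [Nat.coprime_two_right]
      exact ⟨j, by omega⟩
    have h1 : q + 1 ∣ μ - 1 := hodd.dvd_of_dvd_mul_left hdiv
    have h2 : q + 1 ∣ ν - 1 := hodd.dvd_of_dvd_mul_left (hdivν (q + 1) dvd_rfl hdiv)
    obtain ⟨a, ha⟩ := h1
    obtain ⟨c, hc⟩ := h2
    have hμ' : μ = 1 + a * (2 * j + 1) := by
      have : q + 1 = 2 * j + 1 := by omega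
      rw [this] at ha
      rw [mul_comm] at ha
      omega
    have hν' : ν = 1 + c * (2 * j + 1) := by
      have : q + 1 = 2 * j + 1 := by omega
      rw [this] at hc
      rw [mul_comm] at hc
      omega
    have hq' : q = 2 * j := by omega
    rw [hμ', hν', hq'] at hμν
    rcases arithA j a c hj1 hμν with h | h
    · left; rw [hμ', h]; simp
    · right; rw [hν', h]; simp
  · -- q odd
    have hg : Nat.gcd 2 (q - 1) = 2 := by
      rcases gcd_two_cases (q - 1) with ⟨_, h1⟩ | ⟨h2, _⟩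
      · exfalso
        obtain ⟨k, hk⟩ := h1
        obtain ⟨k', hk'⟩ := ho
        omega
      · exact h2
    rw [hg] at hdiv
    obtain ⟨i, hi⟩ := ho
    rcases Nat.even_or_odd i with hie | hio
    · -- q = 4j + 1
      obtain ⟨j, hj⟩ := hie
      have hq' : q = 4 * j + 1 := by omega
      have ht : (q + 1) / 2 = 2 * j + 1 := by omega
      rw [ht] at hdiv
      have hodd : Nat.Coprime (2 * j + 1) 2 := by
        rw [Nat.coprime_two_right]
        exact ⟨j, rfl⟩
      have h1 : 2 * j + 1 ∣ μ - 1 := hodd.dvd_of_dvd_mul_left hdiv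
      have h2 : 2 * j + 1 ∣ ν - 1 :=
        hodd.dvd_of_dvd_mul_left (hdivν (2 * j + 1) ⟨2, by omega⟩ hdiv)
      obtain ⟨a, ha⟩ := h1
      obtain ⟨c, hc⟩ := h2
      have hμ' : μ = 1 + a * (2 * j + 1) := by rw [mul_comm] at ha; omega
      have hν' : ν = 1 + c * (2 * j + 1) := by rw [mul_comm] at hc; omega
      have e : 4 * j + 1 - 1 = 4 * j := by omega
      rw [hμ', hν', hq', e] at hμν
      have h3 : (1 + a * (2 * j + 1)) * (1 + c * (2 * j + 1)) = (4 * j + 1) * (2 * j) := by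
        nlinarith
      rcases arithB j a c h3 with h | h | h
      · left; rw [hμ', h]; simp
      · right; rw [hν', h]; simp
      · exfalso; apply hq9; omega
    · -- q = 4j + 3
      obtain ⟨j, hj⟩ := hio
      have hq' : q = 4 * j + 3 := by omega
      have ht : (q + 1) / 2 = 2 * (j + 1) := by omega
      rw [ht] at hdiv
      have h1 : j + 1 ∣ μ - 1 := (Nat.mul_dvd_mul_iff_left (by norm_num : 0 < 2)).1 hdiv
      have h2 : j + 1 ∣ ν - 1 :=
        (Nat.mul_dvd_mul_iff_left (by norm_num : 0 < 2)).1 (hdivν (2 * (j + 1)) ⟨2, by omega⟩ hdiv)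
      obtain ⟨a, ha⟩ := h1
      obtain ⟨c, hc⟩ := h2
      have hμ' : μ = 1 + a * (j + 1) := by rw [mul_comm] at ha; omega
      have hν' : ν = 1 + c * (j + 1) := by rw [mul_comm] at hc; omega
      have e : 4 * j + 3 - 1 = 2 * (2 * j + 1) := by omega
      rw [hμ', hν', hq', e] at hμν
      have h3 : (1 + a * (j + 1)) * (1 + c * (j + 1)) = (4 * j + 3) * (2 * j + 1) := by
        nlinarith
      rcases arithC j a c h3 with h | h | h | h | h
      · left; rw [hμ', h]; simp
      · right; rw [hν', h]; simp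
      · exfalso; apply hq7; omega
      · exfalso
        have h15 : q = 15 := by omega
        rw [h15] at hq
        have : ¬ IsPrimePow 15 := by
          rw [isPrimePow_iff_unique_prime_dvd]
          rintro ⟨p, _, huniq⟩
          have h3 := huniq 3 ⟨by norm_num, by norm_num⟩
          have h5 := huniq 5 ⟨by norm_num, by norm_num⟩
          omega
        exact this hq
      · exfalso
        have h55 : q = 55 := by omega
        rw [h55] at hq
        have : ¬ IsPrimePow 55 := by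
          rw [isPrimePow_iff_unique_prime_dvd]
          rintro ⟨p, _, huniq⟩
          have h3 := huniq 5 ⟨by norm_num, by norm_num⟩
          have h5 := huniq 11 ⟨by norm_num, by norm_num⟩
          omega
        exact this hq

end Cfsg.Agent.Lib.Helper48.Dickson
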