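import Mathlib
import Cfsg.Agent.Lib.Helper48.Dickson.Concrete2
import Cfsg.Agent.Lib.Helper48.Dickson.TICount
import Cfsg.Agent.Lib.Helper48.Dickson.TorusArith
import Cfsg.Agent.Lib.Helper48.PSL2Spec
import Cfsg.Agent.Lib.Helper48.PSL2Torus
import Cfsg.Agent.Lib.Helper48.PSL2ClassOdd
import Cfsg.Agent.Lib.Helper48.SL2Card
import Cfsg.Agent.Lib.Helper07.SLCard
import Cfsg.Agent.Lib.Helper19.Recog

set_option autoImplicit false

/-! # Normalizers of tori in `PSL(2,F)`: structure and maximality (non-split case) -/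

namespace Cfsg.Agent.Lib.Helper48.Dickson

open Matrix

section

variable {F : Type*} [Field F]

local notation "SL2" => Matrix.SpecialLinearGroup (Fin 2) F
local notation "PSL2" => Matrix.ProjectiveSpecialLinearGroup (Fin 2) F

theorem sl2_det_eq (A : SL2) : A.1 0 0 * A.1 1 1 - A.1 0 1 * A.1 1 0 = 1 := by
  have := A.2
  rwa [Matrix.det_fin_two] at this

theorem sl2_trace_inv (A : SL2) :
    Matrix.trace ((A⁻¹ : SL2) : Matrix (Fin 2) (Fin 2) F) =
      Matrix.trace (A : Matrix (Fin 2) (Fin 2) F) := by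
  change Matrix.trace (Matrix.adjugate A.1) = Matrix.trace A.1
  rw [Matrix.adjugate_fin_two, Matrix.trace_fin_two, Matrix.trace_fin_two]
  simp [add_comm]

theorem not_center_of_trace (A : SL2)
    (ht : (Matrix.trace (A : Matrix (Fin 2) (Fin 2) F)) ^ 2 ≠ 4) : A ∉ Subgroup.center SL2 := by
  rw [mem_center_iff_isScalar]
  rintro ⟨h1, h2, h3⟩
  apply ht
  have hd := sl2_det_eq A
  rw [Matrix.trace_fin_two]
  rw [h1, ← h3] at hd
  linear_combination 4 * hd + (A.1 0 0 + A.1 1 1 + 2 * A.1 0 0) * h3.symm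

theorem inv_ne_self_of_trace (A : SL2)
    (ht : (Matrix.trace (A : Matrix (Fin 2) (Fin 2) F)) ^ 2 ≠ 4) : A⁻¹ ≠ A := by
  intro h
  apply ht
  have h' : Matrix.adjugate A.1 = A.1 := congrArg Subtype.val h
  rw [Matrix.adjugate_fin_two] at h'
  have h00 := congrFun (congrFun h' 0) 0
  have h01 := congrFun (congrFun h' 0) 1
  have h10 := congrFun (congrFun h' 1) 0
  simp at h00 h01 h10
  have hd := sl2_det_eq A
  rw [Matrix.trace_fin_two]
  -- A11 = A00, 2 A01 = 0, 2 A10 = 0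
  have e1 : 2 * A.1 0 1 = 0 := by linear_combination -h01
  have e2 : 2 * A.1 1 0 = 0 := by linear_combination -h10
  linear_combination 4 * hd + 2 * A.1 1 0 * e1 + (A.1 1 1 - A.1 0 0) * h00

end

section fin

variable {F : Type*} [Field F] [Fintype F]

local notation "SL2" => Matrix.SpecialLinearGroup (Fin 2) F
local notation "PSL2" => Matrix.ProjectiveSpecialLinearGroup (Fin 2) F

/-- a semisimple element of `SL(2,F)` is conjugate to its inverse -/
theorem exists_conj_inv (A : SL2)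
    (ht : (Matrix.trace (A : Matrix (Fin 2) (Fin 2) F)) ^ 2 ≠ 4) : ∃ Y : SL2, Y * A * Y⁻¹ = A⁻¹ := by
  have htr := (sl2_trace_inv A)
  rcases Nat.mod_two_eq_zero_or_one (Fintype.card F) with h0 | h1
  · have hchar : ringChar F = 2 := FiniteField.even_card_iff_char_two.2 h0
    have hA := not_center_of_trace A ht
    have hA' : A⁻¹ ∉ Subgroup.center SL2 := fun h => hA (by simpa using (Subgroup.center SL2).inv_mem h)
    rw [mem_center_iff_isScalar] at hA hA'
    have := sl2_isConj_of_trace_eq (FiniteField.isSquare_of_char_two hchar) A A⁻¹ hA hA' htr.symm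
    exact isConj_iff.1 this
  · have := (isConj_iff_trace_odd h1 A A⁻¹ ht).2 htr
    exact isConj_iff.1 this

theorem exists_nrm_not_mem (A : SL2)
    (ht : (Matrix.trace (A : Matrix (Fin 2) (Fin 2) F)) ^ 2 ≠ 4) :
    ∃ n ∈ nrm (comp2 (mk2 A)), n ∉ comp2 (mk2 A) := by
  obtain ⟨Y, hY⟩ := exists_conj_inv A ht
  refine ⟨mk2 Y, ?_, ?_⟩
  · rw [mem_nrm_comp2_iff A Y (not_center_of_trace A ht), hY]
    simp
  · rw [mem_comp2_iff]
    intro h
    apply inv_ne_self_of_trace A ht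
    rw [← hY, h]
    group

/-- `x` normalizes `comp2 g` iff `comp2 (x g x⁻¹) = comp2 g` -/
theorem mem_nrm_comp2_iff' {x g : PSL2} (hg : g ≠ 1) :
    x ∈ nrm (comp2 g) ↔ comp2 (x * g * x⁻¹) = comp2 g := by
  constructor
  · intro hx
    have h1 : x * g * x⁻¹ ∈ comp2 g := (mem_nrm_iff.1 hx g).1 (mem_comp2_self g)
    exact comp2_eq g hg _ h1 (DStruct.conj_ne_one hg)
  · intro h
    rw [mem_nrm_iff]
    intro y
    have h2 := comp2_conj x g (x * y * x⁻¹)
    rw [h] at h2
    rw [h2]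
    have : x⁻¹ * (x * y * x⁻¹) * x = y := by group
    rw [this]

/-- the TI property of components -/
theorem comp2_ti {g : PSL2} (hg : g ≠ 1) (x c : PSL2) (hc : c ∈ comp2 g) (hc1 : c ≠ 1)
    (hx : x * c * x⁻¹ ∈ comp2 g) : x ∈ nrm (comp2 g) := by
  have h1 : comp2 c = comp2 g := comp2_eq g hg c hc hc1
  have h2 : comp2 (x * c * x⁻¹) = comp2 g := comp2_eq g hg _ hx (DStruct.conj_ne_one hc1)
  rw [← h1, mem_nrm_comp2_iff' hc1, h2, h1]

variable {p : ℕ} [Fact p.Prime] [CharP F p] (hT : TPack F p)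

include hT

/-- the order of a torus divides `(q+1)/d` or `(q-1)/d` -/
theorem card_comp2_dvd (A : SL2) (ht : (Matrix.trace (A : Matrix (Fin 2) (Fin 2) F)) ^ 2 ≠ 4) :
    Nat.card (comp2 (mk2 A)) ∣ (Fintype.card F + 1) / Nat.gcd 2 (Fintype.card F - 1) ∨
    Nat.card (comp2 (mk2 A)) ∣ (Fintype.card F - 1) / Nat.gcd 2 (Fintype.card F - 1) := by
  have hcyc := comp2_cyc hT A ht
  have hc := comp2_coprime hT A ht
  obtain ⟨c, hc'⟩ := IsCyclic.exists_generator (α := comp2 (mk2 A))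
  have hord : orderOf c = Nat.card (comp2 (mk2 A)) := orderOf_eq_card_of_forall_mem_zpowers hc'
  have hord' : orderOf c.1 = Nat.card (comp2 (mk2 A)) := by
    rw [← hord]; exact (Subgroup.orderOf_coe c)
  rcases psl2_orderOf_dvd p c.1 with h | h | h
  · rw [hord'] at h
    have h1 : Nat.card (comp2 (mk2 A)) ∣ Nat.gcd (Nat.card (comp2 (mk2 A))) p :=
      Nat.dvd_gcd dvd_rfl h
    rw [hc] at h1
    left
    rw [Nat.dvd_one.1 h1]
    exact one_dvd _
  · right; rw [← hord']; exact h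
  · left; rw [← hord']; exact h

/-- the normalizer of a torus has twice its order -/
theorem card_nrm_comp2 (A : SL2) (ht : (Matrix.trace (A : Matrix (Fin 2) (Fin 2) F)) ^ 2 ≠ 4) :
    Nat.card (nrm (comp2 (mk2 A))) = 2 * Nat.card (comp2 (mk2 A)) ∧
    (comp2 (mk2 A)).relIndex (nrm (comp2 (mk2 A))) = 2 := by
  have hA := not_center_of_trace A ht
  have hle : comp2 (mk2 A) ≤ nrm (comp2 (mk2 A)) := Subgroup.le_normalizer
  have hcard : Nat.card (comp2 (mk2 A)) * (comp2 (mk2 A)).relIndex (nrm (comp2 (mk2 A))) =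
      Nat.card (nrm (comp2 (mk2 A))) := by
    have := Subgroup.relIndex_mul_relIndex (⊥ : Subgroup PSL2) (comp2 (mk2 A))
      (nrm (comp2 (mk2 A))) bot_le hle
    rwa [Subgroup.relIndex_bot_left, Subgroup.relIndex_bot_left] at this
  obtain ⟨n0, hn0, hn0'⟩ := exists_nrm_not_mem A ht
  have h2 : (comp2 (mk2 A)).relIndex (nrm (comp2 (mk2 A))) = 2 := by
    rw [Subgroup.relIndex_eq_two_iff]
    refine ⟨n0, hn0, fun b hb => ?_⟩
    by_cases hbX : b ∈ comp2 (mk2 A)
    · right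
      refine ⟨hbX, fun h => hn0' ?_⟩
      have : n0 = b⁻¹ * (b * n0) := by group
      rw [this]
      exact (comp2 (mk2 A)).mul_mem ((comp2 (mk2 A)).inv_mem hbX) h
    · left
      exact ⟨comp2_t_idx hT A ht hA b hb n0 hn0 hbX hn0', hbX⟩
  exact ⟨by rw [← hcard, h2, mul_comm], h2⟩

/-- the normalizer of a torus is dihedral -/
theorem nrm_comp2_dihedral (A : SL2) (ht : (Matrix.trace (A : Matrix (Fin 2) (Fin 2) F)) ^ 2 ≠ 4) :
    Nonempty (nrm (comp2 (mk2 A)) ≃* DihedralGroup (Nat.card (comp2 (mk2 A)))) := by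
  have hA := not_center_of_trace A ht
  have hle : comp2 (mk2 A) ≤ nrm (comp2 (mk2 A)) := Subgroup.le_normalizer
  have hcyc : IsCyclic (comp2 (mk2 A)) := comp2_cyc hT A ht
  have hcycY : IsCyclic ((comp2 (mk2 A)).subgroupOf (nrm (comp2 (mk2 A)))) :=
    isCyclic_of_injective (Subgroup.subgroupOfEquivOfLe hle).toMonoidHom
      (Subgroup.subgroupOfEquivOfLe hle).injective
  have hcardY : Nat.card ((comp2 (mk2 A)).subgroupOf (nrm (comp2 (mk2 A)))) =
      Nat.card (comp2 (mk2 A)) := Nat.card_congr (Subgroup.subgroupOfEquivOfLe hle).toEquiv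
  have hidx : ((comp2 (mk2 A)).subgroupOf (nrm (comp2 (mk2 A)))).index = 2 :=
    (card_nrm_comp2 hT A ht).2
  have hinv : ∀ h : nrm (comp2 (mk2 A)), h ∉ (comp2 (mk2 A)).subgroupOf (nrm (comp2 (mk2 A))) →
      h ^ 2 = 1 := by
    intro h hh
    rw [Subgroup.mem_subgroupOf] at hh
    have := (comp2_t_inv hT A ht hA h.1 h.2 hh).1
    apply Subtype.ext
    rw [Subgroup.coe_pow, Subgroup.coe_one]
    exact this
  have := Cfsg.Agent.Lib.Helper19.Recog.dihedral_of_index_two _ hidx hinv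
  rwa [hcardY] at this

end fin

end Cfsg.Agent.Lib.Helper48.Dickson
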