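import Mathlib
import Cfsg.Agent.Lib.Helper48.Dickson.TorusMax

set_option autoImplicit false

/-! # The normalizer of a non-split torus is a maximal subgroup of `PSL(2,q)`, `q ∉ {2,7,9}` -/

namespace Cfsg.Agent.Lib.Helper48.Dickson

open Matrix

section fin

variable {F : Type*} [Field F] [Fintype F]

local notation "SL2" => Matrix.SpecialLinearGroup (Fin 2) F
local notation "PSL2" => Matrix.ProjectiveSpecialLinearGroup (Fin 2) F

theorem card_psl2_mul :
    Nat.card PSL2 * Nat.gcd 2 (Fintype.card F - 1) =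
      Fintype.card F * (Fintype.card F ^ 2 - 1) := by
  rw [← Cfsg.Agent.Lib.Helper07.card_sl_eq_card_psl_mul 2 (by norm_num), card_SL2]

/-- a trace without roots is not `±2` -/
theorem trace_sq_ne_four_of_nonsplit (t₀ : F) (h : ∀ a : F, a * (t₀ - a) ≠ 1) : t₀ ^ 2 ≠ 4 := by
  intro h4
  by_cases h2 : (2 : F) = 0
  · -- characteristic two: t₀ = 0
    have h40 : (4 : F) = 0 := by
      have : (4 : F) = 2 * 2 := by norm_num
      rw [this, h2, mul_zero]
    rw [h40] at h4
    have ht : t₀ = 0 := by simpa using h4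
    apply h 1
    rw [ht]
    have : (-1 : F) = 1 := by
      have : (1 : F) + 1 = 0 := by rw [← h2]; norm_num
      linear_combination -this
    simp [this]
  · apply h (t₀ / 2)
    field_simp
    linear_combination h4

variable {p : ℕ} [Fact p.Prime] [CharP F p] (hT : TPack F p)

include hT

theorem torus_plus_max (hq : Fintype.card F ∉ ({2, 7, 9} : Finset ℕ)) :
    ∃ H : Subgroup PSL2, IsCoatom H ∧
      Nonempty (H ≃* DihedralGroup
        ((Fintype.card F + 1) / Nat.gcd 2 (Fintype.card F - 1))) := by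
  classical
  set q := Fintype.card F with hqdef
  have hq2 : 2 ≤ q := Fintype.one_lt_card
  simp only [Finset.mem_insert, Finset.mem_singleton, not_or] at hq
  obtain ⟨hne2, hne7, hne9⟩ := hq
  obtain ⟨z, t₀, hz, ht₀, hns⟩ := exists_nonsplit_trace (F := F) p
  set A : SL2 := slCompanion t₀ with hA
  have htr : (Matrix.trace (A : Matrix (Fin 2) (Fin 2) F)) ^ 2 ≠ 4 := by
    rw [hA, slCompanion_trace]
    exact trace_sq_ne_four_of_nonsplit t₀ hns
  have hAc := not_center_of_trace A htr
  set m := (q + 1) / Nat.gcd 2 (q - 1) with hm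
  have hord : orderOf (mk2 A) = m := orderOf_mk_slCompanion p z t₀ hz ht₀
  have hg : mk2 A ≠ 1 := fun h => hAc ((mk2_eq_one_iff A).1 h)
  -- numerics on d and m
  have hd : (Nat.gcd 2 (q - 1) = 1 ∧ m = q + 1 ∧ (q - 1) / Nat.gcd 2 (q - 1) = q - 1) ∨
      (Nat.gcd 2 (q - 1) = 2 ∧ 2 * m = q + 1 ∧ 2 * ((q - 1) / Nat.gcd 2 (q - 1)) = q - 1) := by
    rcases gcd_two_cases (q - 1) with ⟨h1, h2⟩ | ⟨h1, h2⟩
    · left
      refine ⟨h1, by rw [hm, h1, Nat.div_one], by rw [h1, Nat.div_one]⟩
    · right
      obtain ⟨k, hk⟩ := h2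
      refine ⟨h1, ?_, ?_⟩
      · rw [hm, h1]; omega
      · rw [h1]; omega
  have hmd : m * Nat.gcd 2 (q - 1) = q + 1 := by
    rcases hd with ⟨h1, h2, _⟩ | ⟨h1, h2, _⟩
    · rw [h1, h2, mul_one]
    · rw [h1]; omega
  have hmpos : 0 < m := by
    rcases hd with ⟨_, h2, _⟩ | ⟨_, h2, _⟩ <;> omega
  -- the order of the group
  have hG : Nat.card PSL2 = q * (q - 1) * m := by
    have h1 := card_psl2_mul (F := F)
    have hdpos : 0 < Nat.gcd 2 (q - 1) := Nat.gcd_pos_of_pos_left _ (by norm_num)
    apply Nat.eq_of_mul_eq_mul_right hdpos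
    rw [h1, mul_assoc, hmd]
    obtain ⟨r, hr⟩ : ∃ r, q = r + 1 := ⟨q - 1, by omega⟩
    rw [← hqdef, hr]
    have : (r + 1) ^ 2 - 1 = r * (r + 2) := by
      have : (r + 1) ^ 2 = r * (r + 2) + 1 := by ring
      omega
    rw [this]
    simp only [Nat.add_sub_cancel]
    ring
  -- the order of the torus
  set C := comp2 (mk2 A) with hC
  have hcardC : Nat.card C = m := by
    have h1 : m ∣ Nat.card C := by
      rw [← hord]
      exact Subgroup.orderOf_dvd_natCard _ (mem_comp2_self _)
    rcases card_comp2_dvd hT A htr with h | h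
    · exact Nat.dvd_antisymm h h1
    · exfalso
      have h2 : m ∣ (q - 1) / Nat.gcd 2 (q - 1) := dvd_trans h1 h
      rcases hd with ⟨_, h3, h4⟩ | ⟨_, h3, h4⟩
      · rw [h4, h3] at h2
        have := Nat.le_of_dvd (by omega) h2
        omega
      · have hpos : 0 < (q - 1) / Nat.gcd 2 (q - 1) := by omega
        have := Nat.le_of_dvd hpos h2
        omega
  obtain ⟨hcardN, -⟩ := card_nrm_comp2 hT A htr
  rw [← hC, hcardC] at hcardN
  have hdih := nrm_comp2_dihedral hT A htr
  rw [← hC, hcardC] at hdih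
  refine ⟨nrm C, ⟨?_, ?_⟩, hdih⟩
  · -- proper
    intro htop
    have h1 : Nat.card (nrm C) = Nat.card PSL2 := by
      rw [htop]; exact Subgroup.card_top
    rw [hcardN, hG] at h1
    have hq3 : 3 ≤ q := by omega
    have : 6 ≤ q * (q - 1) := by
      have : 2 ≤ q - 1 := by omega
      nlinarith
    nlinarith
  · -- maximal
    intro M hM
    have hNM : nrm C ≤ M := le_of_lt hM
    obtain ⟨μ, hμ⟩ := Subgroup.card_dvd_of_le hNM
    obtain ⟨ν, hν⟩ : Nat.card M ∣ Nat.card PSL2 := Subgroup.card_subgroup_dvd_card M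
    rw [hcardN] at hμ
    have hMpos : 0 < Nat.card M := Nat.card_pos
    have hμpos : 1 ≤ μ := by
      rcases Nat.eq_zero_or_pos μ with h | h
      · rw [h, mul_zero] at hμ; omega
      · exact h
    have hνpos : 1 ≤ ν := by
      rcases Nat.eq_zero_or_pos ν with h | h
      · rw [h, mul_zero] at hν
        have : 0 < Nat.card PSL2 := Nat.card_pos
        omega
      · exact h
    have hμν : 2 * (μ * ν) = q * (q - 1) := by
      have h1 : q * (q - 1) * m = 2 * m * μ * ν := by rw [← hG, hν, hμ]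
      have h2 : m * (q * (q - 1)) = m * (2 * (μ * ν)) := by rw [mul_comm m, h1]; ring
      exact (Nat.eq_of_mul_eq_mul_left hmpos h2).symm
    have hcount := ti_count C (nrm C) M Subgroup.le_normalizer hNM
      (fun x _ c hc hc1 hx => comp2_ti hg x c hc hc1 hx)
      (fun n hn hnC => (comp2_t_inv hT A htr hAc n hn hnC).1)
      (by
        intro x hx y hy hx2 hy2 hx1 hy1
        have hcyc : IsCyclic C := comp2_cyc hT A htr
        have := cyclic_involution_unique (C := C) ⟨x, hx⟩ ⟨y, hy⟩ (Subtype.ext (by simpa using hx2))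
          (Subtype.ext (by simpa using hy2)) (fun h => hx1 (congrArg Subtype.val h))
          (fun h => hy1 (congrArg Subtype.val h))
        exact congrArg Subtype.val this)
    rw [hcardC, hcardN, hμ] at hcount
    have hdiv : m ∣ 2 * (μ - 1) := by
      have e : 2 * (2 * m * μ - 2 * m) = (2 * m) * (2 * (μ - 1)) := by
        obtain ⟨r, rfl⟩ : ∃ r, μ = r + 1 := ⟨μ - 1, by omega⟩
        simp only [Nat.add_sub_cancel]
        have : 2 * m * (r + 1) - 2 * m = 2 * m * r := by
          rw [mul_add, mul_one, Nat.add_sub_cancel]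
        rw [this]; ring
      rw [e, mul_comm m (2 * m)] at hcount
      exact Nat.dvd_of_mul_dvd_mul_left (by omega) hcount
    rcases torus_plus_arith q μ ν (Fintype.isPrimePow_card_of_field) hne7 hne9 hμν hdiv hμpos hνpos
      with h | h
    · exfalso
      rw [h, mul_one] at hμ
      have : nrm C = M := Subgroup.eq_of_le_of_card_ge hNM (by rw [hcardN, hμ])
      exact (ne_of_lt hM) this
    · rw [h, mul_one] at hν
      exact (Subgroup.card_eq_iff_eq_top M).1 hν.symm

end fin

end Cfsg.Agent.Lib.Helper48.Dickson
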