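import Mathlib
import Cfsg.Agent.Lib.Helper48.Dickson.Packages
import Cfsg.Agent.Lib.Helper48.Dickson.TorusPlus

set_option autoImplicit false
set_option maxHeartbeats 800000

/-! # The normalizer of a split torus is a maximal subgroup of `PSL(2,q)`,
`q ∉ {2,3,5,7,9,11}` -/

namespace Cfsg.Agent.Lib.Helper48.Dickson

open Matrix

section abstract

variable {G : Type*} [Group G] {p : ℕ} [Fact p.Prime] (D : DStruct G p)

/-- the quotient of the normalizer of a `U`-type component by the component is cyclic -/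
theorem DStruct.isCyclic_quot {g : G} (hg : g ≠ 1) (hU : IsPGroup p (D.comp g)) :
    IsCyclic ((nrm (D.comp g)) ⧸ (D.comp g).subgroupOf (nrm (D.comp g))) := by
  obtain ⟨n0, hn0, hcyc⟩ := D.u_cyc g hg hU
  refine ⟨⟨(QuotientGroup.mk' ((D.comp g).subgroupOf (nrm (D.comp g))) ⟨n0, hn0⟩)⁻¹, fun x => ?_⟩⟩
  obtain ⟨m, rfl⟩ := QuotientGroup.mk_surjective x
  obtain ⟨i, hi⟩ := hcyc m.1 m.2
  refine ⟨(i : ℤ), ?_⟩
  have h1 : (QuotientGroup.mk' ((D.comp g).subgroupOf (nrm (D.comp g))) (m * ⟨n0, hn0⟩ ^ i)) = 1 := by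
    rw [QuotientGroup.mk'_apply, QuotientGroup.eq_one_iff, Subgroup.mem_subgroupOf]
    simpa using hi
  rw [map_mul, map_pow] at h1
  simp only [zpow_natCast, inv_pow]
  rw [QuotientGroup.mk'_apply] at h1 ⊢
  exact (eq_inv_of_mul_eq_one_left h1).symm

/-- commutators of the normalizer of a `U`-type component lie in the component -/
theorem DStruct.commutator_mem {g : G} (hg : g ≠ 1) (hU : IsPGroup p (D.comp g)) (a b : G)
    (ha : a ∈ nrm (D.comp g)) (hb : b ∈ nrm (D.comp g)) : a * b * a⁻¹ * b⁻¹ ∈ D.comp g := by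
  have hcyc := D.isCyclic_quot hg hU
  have hcomm : ∀ x y : (nrm (D.comp g)) ⧸ (D.comp g).subgroupOf (nrm (D.comp g)), x * y = y * x := by
    intro x y
    obtain ⟨c, hc⟩ := hcyc.exists_zpow_surjective
    obtain ⟨i, rfl⟩ := hc x
    obtain ⟨j, rfl⟩ := hc y
    simp only
    rw [← _root_.zpow_add, ← _root_.zpow_add, add_comm]
  have h1 : (QuotientGroup.mk' ((D.comp g).subgroupOf (nrm (D.comp g)))
      ((⟨a, ha⟩ : nrm (D.comp g)) * ⟨b, hb⟩ * (⟨a, ha⟩ : nrm (D.comp g))⁻¹ *
        (⟨b, hb⟩ : nrm (D.comp g))⁻¹)) = 1 := by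
    rw [map_mul, map_mul, map_mul, map_inv, map_inv, hcomm (QuotientGroup.mk' _ ⟨a, ha⟩)]
    group
  rw [QuotientGroup.mk'_apply, QuotientGroup.eq_one_iff, Subgroup.mem_subgroupOf] at h1
  simpa using h1

end abstract

section concrete

variable {F : Type*} [Field F] [Fintype F] (p : ℕ) [Fact p.Prime] [CharP F p]

local notation "SL2" => Matrix.SpecialLinearGroup (Fin 2) F
local notation "PSL2" => Matrix.ProjectiveSpecialLinearGroup (Fin 2) F

/-- the Dickson structure of `PSL(2,F)` -/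
noncomputable abbrev DD : DStruct PSL2 p := dstruct (tPack p) (uPack p)

/-- an element of order prime to `p` is of `T`-type -/
theorem coprime_of_orderOf (g : PSL2) (hg1 : g ≠ 1) (hc : (orderOf g).Coprime p) :
    (Nat.card (comp2 g)).Coprime p := by
  rcases (DD p).dich g hg1 with h | h
  · exfalso
    obtain ⟨j, hj⟩ := h ⟨g, mem_comp2_self g⟩
    have hj' : g ^ p ^ j = 1 := by simpa using congrArg Subtype.val hj
    have h1 : orderOf g ∣ p ^ j := orderOf_dvd_of_pow_eq_one hj'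
    have h2 : (orderOf g).Coprime (p ^ j) := Nat.Coprime.pow_right j hc
    have h3 : orderOf g = 1 := Nat.Coprime.eq_one_of_dvd h2 h1
    exact hg1 (orderOf_eq_one_iff.1 h3)
  · exact h

/-- the trace of a lift of a `T`-type element -/
theorem trace_of_coprime (A : SL2) (hA : A ∉ Subgroup.center SL2)
    (hc : (Nat.card (comp2 (mk2 A))).Coprime p) :
    (Matrix.trace (A : Matrix (Fin 2) (Fin 2) F)) ^ 2 ≠ 4 := by
  intro ht
  have hg : mk2 A ≠ 1 := fun h => hA ((mk2_eq_one_iff A).1 h)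
  have : Nontrivial (comp2 (mk2 A)) :=
    ⟨⟨⟨mk2 A, mem_comp2_self _⟩, 1, fun h => hg (congrArg Subtype.val h)⟩⟩
  exact not_pgroup_and_coprime (uGood_of_trace (uPack p) A hA ht).1 hc

/-- `p` divides `q` -/
theorem char_dvd_card : p ∣ Fintype.card F := by
  rw [← CharP.cast_eq_zero_iff F p]
  exact Nat.cast_card_eq_zero F

end concrete

end Cfsg.Agent.Lib.Helper48.Dickson
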