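import Mathlib
import Cfsg.Agent.Lib.Helper48.Dickson.TorusMinus

set_option autoImplicit false
set_option maxHeartbeats 1600000

/-! # The normalizer of a split torus is maximal: the main argument -/

namespace Cfsg.Agent.Lib.Helper48.Dickson

open Matrix

section concrete

variable {F : Type*} [Field F] [Fintype F]

local notation "SL2" => Matrix.SpecialLinearGroup (Fin 2) F
local notation "PSL2" => Matrix.ProjectiveSpecialLinearGroup (Fin 2) F

theorem torus_minus_max (p : ℕ) [Fact p.Prime] [CharP F p]
    (hq : Fintype.card F ∉ ({2, 3, 5, 7, 9, 11} : Finset ℕ)) :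
    ∃ H : Subgroup PSL2, IsCoatom H ∧
      Nonempty (H ≃* DihedralGroup
        ((Fintype.card F - 1) / Nat.gcd 2 (Fintype.card F - 1))) := by
  classical
  have hp : p.Prime := Fact.out
  set q := Fintype.card F with hqdef
  have hpp : IsPrimePow q := Fintype.isPrimePow_card_of_field
  have hq2 : 2 ≤ q := Fintype.one_lt_card
  simp only [Finset.mem_insert, Finset.mem_singleton, not_or] at hq
  obtain ⟨hne2, hne3, hne5, hne7, hne9, hne11⟩ := hq
  have hq4 : 4 ≤ q := by omega
  obtain ⟨g, hord⟩ := psl2_exists_orderOf_eq_split (F := F) hq4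
  set m := (q - 1) / Nat.gcd 2 (q - 1) with hm
  -- numerics on d and m
  have hd : (Nat.gcd 2 (q - 1) = 1 ∧ m = q - 1 ∧ (q + 1) / Nat.gcd 2 (q - 1) = q + 1 ∧ Even q) ∨
      (Nat.gcd 2 (q - 1) = 2 ∧ 2 * m = q - 1 ∧ (q + 1) / Nat.gcd 2 (q - 1) = m + 1 ∧ Odd q) := by
    rcases gcd_two_cases (q - 1) with ⟨h1, h2⟩ | ⟨h1, h2⟩
    · left
      obtain ⟨k, hk⟩ := h2
      exact ⟨h1, by rw [hm, h1, Nat.div_one], by rw [h1, Nat.div_one], ⟨k + 1, by omega⟩⟩
    · right
      obtain ⟨k, hk⟩ := h2
      refine ⟨h1, ?_, ?_, ⟨k, by omega⟩⟩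
      · rw [hm, h1]; omega
      · rw [hm, h1]; omega
  have hm3 : 3 ≤ m := by
    rcases hd with ⟨_, h2, _, _⟩ | ⟨_, h2, _, h4⟩
    · omega
    · obtain ⟨k, hk⟩ := h4
      omega
  have hmd : m * Nat.gcd 2 (q - 1) = q - 1 := by
    rcases hd with ⟨h1, h2, _⟩ | ⟨h1, h2, _⟩
    · rw [h1, h2, mul_one]
    · rw [h1]; omega
  have hpq : p ∣ q := char_dvd_card p
  have hmq : m ∣ q - 1 := ⟨_, hmd.symm⟩
  have hpm : ¬ p ∣ m := by
    intro h
    have h1 : p ∣ q - 1 := dvd_trans h hmq
    have h2 : p ∣ q - (q - 1) := Nat.dvd_sub hpq h1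
    have h3 : q - (q - 1) = 1 := by omega
    rw [h3] at h2
    exact hp.one_lt.ne' (Nat.dvd_one.1 h2)
  have hpq1 : ¬ p ∣ q + 1 := by
    intro h
    have h2 : p ∣ (q + 1) - q := Nat.dvd_sub h hpq
    have h3 : q + 1 - q = 1 := by omega
    rw [h3] at h2
    exact hp.one_lt.ne' (Nat.dvd_one.1 h2)
  have hcop : (orderOf g).Coprime p := by
    rw [hord]
    exact ((Nat.Prime.coprime_iff_not_dvd hp).2 hpm).symm
  have hg1 : g ≠ 1 := by
    intro h
    rw [h, orderOf_one] at hord
    omega
  have hT := coprime_of_orderOf p g hg1 hcop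
  obtain ⟨A, rfl⟩ := mk2_surjective g
  have hAc : A ∉ Subgroup.center SL2 := fun h => hg1 ((mk2_eq_one_iff A).2 h)
  have htr := trace_of_coprime p A hAc hT
  -- the order of the group
  have hG : Nat.card PSL2 = q * (q + 1) * m := by
    have h1 := card_psl2_mul (F := F)
    have hdpos : 0 < Nat.gcd 2 (q - 1) := Nat.gcd_pos_of_pos_left _ (by norm_num)
    apply Nat.eq_of_mul_eq_mul_right hdpos
    rw [h1, mul_assoc, hmd]
    obtain ⟨r, hr⟩ : ∃ r, q = r + 1 := ⟨q - 1, by omega⟩
    rw [← hqdef, hr]
    have : (r + 1) ^ 2 - 1 = r * (r + 2) := by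
      have : (r + 1) ^ 2 = r * (r + 2) + 1 := by ring
      omega
    rw [this]
    simp only [Nat.add_sub_cancel]
    ring
  -- the torus
  set C := comp2 (mk2 A) with hC
  have hcardC : Nat.card C = m := by
    have h1 : m ∣ Nat.card C := by
      rw [← hord]
      exact Subgroup.orderOf_dvd_natCard _ (mem_comp2_self _)
    rcases card_comp2_dvd (tPack p) A htr with h | h
    · exfalso
      have h2 : m ∣ (q + 1) / Nat.gcd 2 (q - 1) := dvd_trans h1 h
      rcases hd with ⟨_, h3, h4, _⟩ | ⟨_, h3, h4, _⟩
      · rw [h4] at h2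
        have h5 : m ∣ (q + 1) - m := Nat.dvd_sub h2 dvd_rfl
        have h6 : q + 1 - m = 2 := by omega
        rw [h6] at h5
        have := Nat.le_of_dvd (by norm_num) h5
        omega
      · rw [h4] at h2
        have h5 : m ∣ (m + 1) - m := Nat.dvd_sub h2 dvd_rfl
        have h6 : m + 1 - m = 1 := by omega
        rw [h6] at h5
        have := Nat.le_of_dvd (by norm_num) h5
        omega
    · exact Nat.dvd_antisymm h h1
  obtain ⟨hcardN, -⟩ := card_nrm_comp2 (tPack p) A htr
  rw [← hC, hcardC] at hcardN
  have hdih := nrm_comp2_dihedral (tPack p) A htr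
  rw [← hC, hcardC] at hdih
  refine ⟨nrm C, ⟨?_, ?_⟩, hdih⟩
  · -- proper
    intro htop
    have h1 : Nat.card (nrm C) = Nat.card PSL2 := by
      rw [htop]; exact Subgroup.card_top
    rw [hcardN, hG] at h1
    have : 20 ≤ q * (q + 1) := by nlinarith
    nlinarith
  · -- maximal
    intro K hK
    have hNK : nrm C ≤ K := le_of_lt hK
    have hCK : C ≤ K := le_trans Subgroup.le_normalizer hNK
    have htC : mk2 A ∈ C := mem_comp2_self _
    have htK : mk2 A ∈ K := hCK htC
    have hXK : (DD p).XH K (mk2 A) = C := inf_eq_right.2 hCK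
    have hNKeq : (DD p).NH K (mk2 A) = nrm C := inf_eq_right.2 hNK
    have hKG : Nat.card K ∣ Nat.card PSL2 := Subgroup.card_subgroup_dvd_card K
    have hNKdvd : 2 * m ∣ Nat.card K := by
      rw [← hcardN]; exact Subgroup.card_dvd_of_le hNK
    have h4m : 4 * m ≤ Nat.card K := by
      obtain ⟨j, hj⟩ := hNKdvd
      have hKpos : 0 < Nat.card K := Nat.card_pos
      have hj1 : j ≠ 1 := by
        intro h
        rw [h, mul_one] at hj
        have : nrm C = K := Subgroup.eq_of_le_of_card_ge hNK (by rw [hcardN, hj])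
        exact (ne_of_lt hK) this
      have hj0 : j ≠ 0 := by
        intro h
        rw [h, mul_zero] at hj
        omega
      have : 2 ≤ j := by omega
      rw [hj]
      nlinarith
    obtain ⟨n0, hn0, hn0C⟩ := exists_nrm_not_mem A htr
    have hnotU : ¬ IsPGroup p (comp2 (mk2 A)) := by
      intro hU
      have : Nontrivial (comp2 (mk2 A)) :=
        ⟨⟨⟨mk2 A, mem_comp2_self _⟩, 1, fun h => hg1 (congrArg Subtype.val h)⟩⟩
      exact not_pgroup_and_coprime hU hT
    have htorus : ∀ g' : PSL2, g' ≠ 1 → (Nat.card ((DD p).comp g')).Coprime p →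
        Nat.card ((DD p).comp g') ≤ m + 2 := by
      intro g' hg' hc
      have hpos : 0 < Nat.card ((DD p).comp g') := Nat.card_pos
      have key : Nat.card ((DD p).comp g') ∣
            (Fintype.card F + 1) / Nat.gcd 2 (Fintype.card F - 1) ∨
          Nat.card ((DD p).comp g') ∣
            (Fintype.card F - 1) / Nat.gcd 2 (Fintype.card F - 1) :=
        card_torus_dvd (tPack p) (uPack p) g' hg' hc
      rcases key with h | h
      · rcases hd with ⟨_, h3, h4, _⟩ | ⟨_, h3, h4, _⟩
        · rw [← hqdef, h4] at h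
          have := Nat.le_of_dvd (by omega) h
          omega
        · rw [← hqdef, h4] at h
          have := Nat.le_of_dvd (by omega) h
          omega
      · rw [← hqdef, ← hm] at h
        have := Nat.le_of_dvd (by omega) h
        omega
    rcases (DD p).outcome K with h1 | ⟨g', hg', hc, hle⟩ | ⟨g', hg'K, hg', hc, hle, hcard⟩ |
      ⟨g', hg', hU, hle⟩ | ⟨h12, g', hg'K, hg', hx, hn⟩ | ⟨h24, g', hg'K, hg', hc, hx, hn⟩ |
      ⟨h60, hall, hrel⟩ | ⟨g', hg'K, hg', hU, k, hk2, hnk, hhk, hk, hcls⟩
    · -- trivial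
      exfalso
      rw [h1, Subgroup.card_bot] at h4m
      omega
    · -- inside a torus
      exfalso
      have h2 := Nat.le_of_dvd Nat.card_pos (Subgroup.card_dvd_of_le hle)
      have h3 := htorus g' hg' hc
      omega
    · -- inside the normalizer of a torus
      exfalso
      have h2 : Nat.card ((DD p).XH K g') ≤ Nat.card ((DD p).comp g') :=
        Nat.le_of_dvd Nat.card_pos (Subgroup.card_dvd_of_le inf_le_right)
      have h3 := htorus g' hg' hc
      omega
    · -- Borel
      exfalso
      have hn0K : n0 ∈ nrm ((DD p).comp g') := hle (hNK hn0)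
      have htK' : mk2 A ∈ nrm ((DD p).comp g') := hle htK
      have hcomm := (DD p).commutator_mem hg' hU n0 (mk2 A) hn0K htK'
      have hinv := (comp2_t_inv (tPack p) A htr hAc n0 hn0 hn0C).2 (mk2 A) htC
      rw [hinv] at hcomm
      -- w = t⁻¹ t⁻¹ is a p-element of order dividing m
      obtain ⟨j, hj⟩ := hU ⟨_, hcomm⟩
      have hj' : ((mk2 A)⁻¹ * (mk2 A)⁻¹) ^ p ^ j = 1 := by simpa using congrArg Subtype.val hj
      have hm' : ((mk2 A)⁻¹ * (mk2 A)⁻¹) ^ m = 1 := by
        have h1 : (mk2 A) ^ m = 1 := by rw [← hord]; exact pow_orderOf_eq_one _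
        have h2 : (mk2 A)⁻¹ * (mk2 A)⁻¹ = ((mk2 A) ^ 2)⁻¹ := by group
        rw [h2, inv_pow, ← pow_mul, mul_comm, pow_mul, h1, one_pow, inv_one]
      have h1 : orderOf ((mk2 A)⁻¹ * (mk2 A)⁻¹) ∣ Nat.gcd (p ^ j) m :=
        Nat.dvd_gcd (orderOf_dvd_of_pow_eq_one hj') (orderOf_dvd_of_pow_eq_one hm')
      have h2 : Nat.gcd (p ^ j) m = 1 :=
        Nat.Coprime.pow_left j ((Nat.Prime.coprime_iff_not_dvd hp).2 hpm)
      rw [h2, Nat.dvd_one, orderOf_eq_one_iff] at h1
      have h3 : (mk2 A) ^ 2 = 1 := by
        have : (mk2 A) ^ 2 = ((mk2 A)⁻¹ * (mk2 A)⁻¹)⁻¹ := by group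
        rw [this, h1, inv_one]
      have h4 := orderOf_dvd_of_pow_eq_one h3
      rw [hord] at h4
      have := Nat.le_of_dvd (by norm_num) h4
      omega
    · -- order 12
      exfalso
      have hm3' : m = 3 := by omega
      have hrel := (DD p).rel_of_prime K (l := 3) (by norm_num) hg' hg1 hg'K hx
        (by rw [hXK, hcardC, hm3']) (by rw [h12]; norm_num)
      have := (DD p).card_NH_of_rel K hg' hg1 hrel
      rw [hNKeq, hcardN, hn] at this
      omega
    · -- order 24
      exfalso
      rw [h24] at hNKdvd h4m hKG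
      rw [hG] at hKG
      have hm6 : m ≤ 6 := by omega
      rcases hd with ⟨_, h3, _, h5⟩ | ⟨_, h3, _, h5⟩
      · obtain ⟨r, hr⟩ := h5
        interval_cases m
        · have hq' : q = 4 := by omega
          rw [hq'] at hKG
          norm_num at hKG
        · omega
        · omega
        · omega
      · obtain ⟨r, hr⟩ := h5
        interval_cases m
        · omega
        · omega
        · omega
        · have hq' : q = 13 := by omega
          rw [hq'] at hKG
          norm_num at hKG
    · -- order 60
      have hx := hall (mk2 A) htK hg1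
      rw [hXK, hcardC] at hx
      rcases hd with ⟨_, h3, _, h5⟩ | ⟨_, h3, _, h5⟩
      · obtain ⟨r, hr⟩ := h5
        rcases hx with ⟨h, _⟩ | ⟨h, _⟩ | ⟨h, _⟩
        · omega
        · -- q = 4
          have hq' : q = 4 := by omega
          have : Nat.card K = Nat.card PSL2 := by rw [h60, hG, hq', h]
          exact (Subgroup.card_eq_iff_eq_top K).1 this
        · -- q = 6 is not a prime power
          exfalso
          have hq' : q = 6 := by omega
          rw [hq'] at hpp
          rw [isPrimePow_iff_unique_prime_dvd] at hpp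
          obtain ⟨p', _, huniq⟩ := hpp
          have h2 := huniq 2 ⟨by norm_num, by norm_num⟩
          have h3 := huniq 3 ⟨by norm_num, by norm_num⟩
          omega
      · exfalso
        obtain ⟨r, hr⟩ := h5
        rcases hx with ⟨h, _⟩ | ⟨h, _⟩ | ⟨h, _⟩ <;> omega
    · -- doubly transitive
      set P := Nat.card ((DD p).XH K g') with hP
      have hmP : m = k ∨ m * (P - 1) = k * (P + 1) := by
        have := hcls (mk2 A) htK hg1
        rw [hXK, hcardC] at this
        rcases this with h | h | h
        · exact absurd h hnotU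
        · left; exact h
        · right; exact h
      have hkP : k ≤ P - 1 := by omega
      have hP3 : 3 ≤ P := by omega
      have hmP1 : m ≤ P + 1 := by
        rcases hmP with h | h
        · omega
        · have h1 : k * (P + 1) ≤ (P - 1) * (P + 1) := Nat.mul_le_mul_right _ hkP
          have h2 : m * (P - 1) ≤ (P + 1) * (P - 1) := by rw [h]; rw [mul_comm (P + 1)]; exact h1
          exact Nat.le_of_mul_le_mul_right h2 (by omega)
      -- P divides q
      have hPq : P ∣ q := by
        have hpg : IsPGroup p ((DD p).XH K g') := hU.to_le inf_le_right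
        obtain ⟨a, ha⟩ := hpg.exists_card_eq
        have h1 : P ∣ Nat.card PSL2 :=
          dvd_trans (Subgroup.card_dvd_of_le (inf_le_left : (DD p).XH K g' ≤ K)) hKG
        rw [hG, mul_assoc] at h1
        have hcop : Nat.Coprime P ((q + 1) * m) := by
          rw [hP, ha]
          apply Nat.Coprime.pow_left
          rw [Nat.Prime.coprime_iff_not_dvd hp]
          intro h
          rcases (Nat.Prime.dvd_mul hp).1 h with h | h
          · exact hpq1 h
          · exact hpm h
        exact hcop.dvd_of_dvd_mul_right h1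
      obtain ⟨j, hj⟩ := hPq
      have hj0 : j ≠ 0 := by
        intro h
        rw [h, mul_zero] at hj
        omega
      by_cases hj1 : j = 1
      · -- P = q
        rw [hj1, mul_one] at hj
        have hKcard : Nat.card K = Nat.card PSL2 := by
          rw [hhk, hG, ← hj]
          rcases hd with ⟨_, h3, _, h5⟩ | ⟨_, h3, _, h5⟩
          · obtain ⟨r, hr⟩ := h5
            rcases hk with h | h
            · rw [h, h3, hj]; ring
            · exfalso; omega
          · obtain ⟨r, hr⟩ := h5
            rcases hk with h | h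
            · exfalso
              -- |K| = q (q-1) (q+1) > |G|
              have hle := Nat.le_of_dvd Nat.card_pos hKG
              rw [hhk, hG, ← hj] at hle
              have h6 : (q * (q + 1)) * k ≤ (q * (q + 1)) * m := by
                calc (q * (q + 1)) * k = q * k * (1 + q) := by ring
                  _ ≤ q * (q + 1) * m := hle
              have h7 : k ≤ m := Nat.le_of_mul_le_mul_left h6 (by positivity)
              rw [← hj] at h
              omega
            · have hkm : k = m := by omega
              rw [hkm]; ring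
        exact (Subgroup.card_eq_iff_eq_top K).1 hKcard
      · -- P < q
        exfalso
        have hj2 : 2 ≤ j := by omega
        rcases hd with ⟨_, h3, _, h5⟩ | ⟨_, h3, _, h5⟩
        · have : 2 * P ≤ q := by rw [hj]; nlinarith
          omega
        · obtain ⟨r, hr⟩ := h5
          have hj3 : 3 ≤ j := by
            by_contra hlt
            have hj2' : j = 2 := by omega
            rw [hj2'] at hj
            omega
          have : 3 * P ≤ q := by rw [hj]; nlinarith
          omega

end concrete

end Cfsg.Agent.Lib.Helper48.Dickson
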